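import Cfsg.Agent.Lib.Transvec.Unitary
import Cfsg.Agent.Lib.Fusion.UniTri

/-!
# The special unitary group of the antidiagonal Hermitian form
-/

set_option autoImplicit false

open Matrix

namespace CfsgLib.Fusion.SUSimple

variable {F : Type*} [Field F] {n : ℕ} (σ : F ≃+* F)

/-- The antidiagonal Hermitian form. -/
def uForm (x y : Fin n → F) : F := ∑ l, x l * σ (y l.rev)

/-- The standard basis. -/
def eU (i : Fin n) : Fin n → F := Pi.single i 1

theorem uForm_add_left (x x' y : Fin n → F) : uForm σ (x + x') y = uForm σ x y + uForm σ x' y := by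
  simp [uForm, add_mul, Finset.sum_add_distrib]

theorem uForm_add_right (x y y' : Fin n → F) : uForm σ x (y + y') = uForm σ x y + uForm σ x y' := by
  simp [uForm, mul_add, Finset.sum_add_distrib]

theorem uForm_smul_left (c : F) (x y : Fin n → F) : uForm σ (c • x) y = c * uForm σ x y := by
  simp [uForm, Finset.mul_sum, mul_assoc]

theorem uForm_smul_right (c : F) (x y : Fin n → F) : uForm σ x (c • y) = σ c * uForm σ x y := by
  simp [uForm, Finset.mul_sum, mul_left_comm]

@[simp] theorem uForm_zero_left (y : Fin n → F) : uForm σ 0 y = 0 := by simp [uForm]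

@[simp] theorem uForm_zero_right (x : Fin n → F) : uForm σ x 0 = 0 := by simp [uForm]

theorem uForm_neg_left (x y : Fin n → F) : uForm σ (-x) y = -uForm σ x y := by simp [uForm]

theorem uForm_neg_right (x y : Fin n → F) : uForm σ x (-y) = -uForm σ x y := by simp [uForm]

theorem uForm_swap (hinv : ∀ a, σ (σ a) = a) (x y : Fin n → F) :
    uForm σ x y = σ (uForm σ y x) := by
  rw [uForm, uForm, map_sum, ← Equiv.sum_comp Fin.revPerm]
  refine Finset.sum_congr rfl fun l _ => ?_
  rw [map_mul, hinv, Fin.revPerm_apply, Fin.rev_rev, mul_comm]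

theorem uForm_eU_right (x : Fin n → F) (i : Fin n) : uForm σ x (eU i) = x i.rev := by
  rw [uForm, Finset.sum_eq_single i.rev]
  · simp [eU]
  · intro l _ hl
    rw [eU, Pi.single_eq_of_ne, map_zero, mul_zero]
    exact fun h => hl (by rw [← h, Fin.rev_rev])
  · simp

theorem uForm_eU_left (y : Fin n → F) (i : Fin n) : uForm σ (eU i) y = σ (y i.rev) := by
  rw [uForm, Finset.sum_eq_single i]
  · simp [eU]
  · intro l _ hl
    rw [eU, Pi.single_eq_of_ne hl, zero_mul]
  · simp

theorem eU_apply (i j : Fin n) : (eU i : Fin n → F) j = if j = i then 1 else 0 := by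
  simp [eU, Pi.single_apply]

theorem mulVec_eU (M : Matrix (Fin n) (Fin n) F) (j x : Fin n) : (M *ᵥ eU j) x = M x j := by
  rw [eU, mulVec_single_one]
  rfl

/-- The functional of a vector. -/
def uFun (e : Fin n → F) : Fin n → F := fun l => σ (e l.rev)

theorem uFun_dot (e x : Fin n → F) : uFun σ e ⬝ᵥ x = uForm σ x e := by
  simp [uFun, uForm, dotProduct, mul_comm]

/-- The condition on the parameters of a root element. -/
def UCond (e v : Fin n → F) (a : F) : Prop :=
  uForm σ e e = 0 ∧ uForm σ v e = 0 ∧ a + σ a + uForm σ v v = 0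

/-- The matrix of a root element. -/
def uYMat (e v : Fin n → F) (a : F) : Matrix (Fin n) (Fin n) F :=
  1 + vecMulVec v (uFun σ e) + vecMulVec e (a • uFun σ e - uFun σ v)

theorem uYMat_mulVec (e v : Fin n → F) (a : F) (x : Fin n → F) :
    uYMat σ e v a *ᵥ x = x + uForm σ x e • v + (a * uForm σ x e - uForm σ x v) • e := by
  rw [uYMat, add_mulVec, add_mulVec, one_mulVec]
  funext i
  simp only [Pi.add_apply, Pi.smul_apply, smul_eq_mul, vecMulVec_mulVec, sub_dotProduct,
    smul_dotProduct, uFun_dot, op_smul_eq_smul]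

variable (hinv : ∀ a, σ (σ a) = a)
include hinv

theorem uYMat_form {e v : Fin n → F} {a : F} (h : UCond σ e v a) (x y : Fin n → F) :
    uForm σ (uYMat σ e v a *ᵥ x) (uYMat σ e v a *ᵥ y) = uForm σ x y := by
  obtain ⟨he, hve, ha⟩ := h
  have hev : uForm σ e v = 0 := by rw [uForm_swap σ hinv, hve, map_zero]
  have hey : uForm σ e y = σ (uForm σ y e) := uForm_swap σ hinv e y
  have hvy : uForm σ v y = σ (uForm σ y v) := uForm_swap σ hinv v y
  rw [uYMat_mulVec, uYMat_mulVec]
  simp only [uForm_add_left, uForm_add_right, uForm_smul_left, uForm_smul_right, map_sub, map_mul,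
    he, hve, hev, hey, hvy, mul_zero, add_zero]
  linear_combination (uForm σ x e * σ (uForm σ y e)) * ha

omit hinv in
theorem uYMat_det [Finite F] {e v : Fin n → F} {a : F} (he : uForm σ e e = 0)
    (hev : uForm σ v e = 0) (hev' : uForm σ e v = 0) : (uYMat σ e v a).det = 1 := by
  haveI := Fintype.ofFinite F
  obtain ⟨p, hchar⟩ := CharP.exists F
  obtain ⟨d, hp, -⟩ := FiniteField.card F p
  haveI : Fact p.Prime := ⟨hp⟩
  set N := uYMat σ e v a - 1 with hN
  have hNx : ∀ x, N *ᵥ x = uForm σ x e • v + (a * uForm σ x e - uForm σ x v) • e := fun x => by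
    rw [hN, sub_mulVec, one_mulVec, uYMat_mulVec]
    abel
  have h3 : N ^ 3 = 0 := by
    refine ext_of_mulVec_single fun i => ?_
    rw [pow_succ, pow_two, zero_mulVec, ← mulVec_mulVec, ← mulVec_mulVec]
    simp only [hNx, uForm_add_left, uForm_smul_left, he, hev, hev', mul_zero, zero_smul, sub_zero,
      zero_add, add_zero, zero_sub, mul_neg, neg_zero, smul_zero]
  have h1 : (uYMat σ e v a) ^ p ^ 2 = 1 := by
    have h2 : (uYMat σ e v a - 1) ^ p ^ 2 = 0 := by
      obtain ⟨k, hk⟩ := Nat.exists_eq_add_of_le (show 3 ≤ p ^ 2 by nlinarith [hp.two_le])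
      rw [← hN, hk, pow_add, h3, Matrix.zero_mul]
    rcases isEmpty_or_nonempty (Fin n) with hn | hn
    · exact Subsingleton.elim _ _
    rw [sub_pow_char_pow_of_commute (p := p) (n := 2) (Commute.one_right _), one_pow] at h2
    exact sub_eq_zero.1 h2
  have h4 := congrArg Matrix.det h1
  rw [det_pow, det_one] at h4
  refine sub_eq_zero.1 (eq_zero_of_pow_eq_zero (n := p ^ 2) ?_)
  rw [sub_pow_char_pow_of_commute (p := p) (n := 2) (Commute.one_right _), h4, one_pow, sub_self]

omit hinv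

variable (n) in
/-- The special unitary group of the antidiagonal form. -/
def UG : Subgroup (Matrix.SpecialLinearGroup (Fin n) F) where
  carrier := {g | ∀ x y, uForm σ (g.1 *ᵥ x) (g.1 *ᵥ y) = uForm σ x y}
  one_mem' := fun x y => by rw [Matrix.SpecialLinearGroup.coe_one, one_mulVec, one_mulVec]
  mul_mem' := fun {g h} hg hh x y => by
    rw [Matrix.SpecialLinearGroup.coe_mul, ← mulVec_mulVec, ← mulVec_mulVec, hg, hh]
  inv_mem' := fun {g} hg x y => by
    have h1 : ∀ z, g.1 *ᵥ (g⁻¹.1 *ᵥ z) = z := fun z => by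
      rw [mulVec_mulVec, ← Matrix.SpecialLinearGroup.coe_mul, mul_inv_cancel,
        Matrix.SpecialLinearGroup.coe_one, one_mulVec]
    conv_rhs => rw [← h1 x, ← h1 y, hg]

/-- The action of an element on vectors. -/
def uAct (g : UG n σ) (x : Fin n → F) : Fin n → F := g.1.1 *ᵥ x

theorem uAct_mul (g h : UG n σ) (x : Fin n → F) : uAct σ (g * h) x = uAct σ g (uAct σ h x) := by
  simp [uAct, mulVec_mulVec]

@[simp] theorem uAct_one (x : Fin n → F) : uAct σ (1 : UG n σ) x = x := by simp [uAct]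

@[simp] theorem uAct_inv_cancel (g : UG n σ) (x : Fin n → F) : uAct σ g⁻¹ (uAct σ g x) = x := by
  rw [← uAct_mul, inv_mul_cancel, uAct_one]

@[simp] theorem uAct_cancel_inv (g : UG n σ) (x : Fin n → F) : uAct σ g (uAct σ g⁻¹ x) = x := by
  rw [← uAct_mul, mul_inv_cancel, uAct_one]

theorem uAct_form (g : UG n σ) (x y : Fin n → F) : uForm σ (uAct σ g x) (uAct σ g y) = uForm σ x y :=
  g.2 x y

theorem uAct_add (g : UG n σ) (x y : Fin n → F) : uAct σ g (x + y) = uAct σ g x + uAct σ g y :=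
  mulVec_add _ _ _

theorem uAct_sub (g : UG n σ) (x y : Fin n → F) : uAct σ g (x - y) = uAct σ g x - uAct σ g y :=
  mulVec_sub _ _ _

theorem uAct_neg (g : UG n σ) (x : Fin n → F) : uAct σ g (-x) = -uAct σ g x := mulVec_neg _ _

theorem uAct_smul (g : UG n σ) (c : F) (x : Fin n → F) : uAct σ g (c • x) = c • uAct σ g x :=
  mulVec_smul _ _ _

@[simp] theorem uAct_zero (g : UG n σ) : uAct σ g 0 = 0 := mulVec_zero _

theorem uAct_eU (g : UG n σ) (j x : Fin n) : uAct σ g (eU j) x = g.1.1 x j := mulVec_eU _ j x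

theorem ug_ext {g h : UG n σ} (H : ∀ x, uAct σ g x = uAct σ h x) : g = h :=
  Subtype.ext (Subtype.ext (ext_of_mulVec_single fun i => H _))

open Classical in
/-- The root element, or `1` for bad parameters. -/
noncomputable def uY (e v : Fin n → F) (a : F) : UG n σ :=
  if h : (uYMat σ e v a).det = 1 ∧ ∀ x y, uForm σ (uYMat σ e v a *ᵥ x) (uYMat σ e v a *ᵥ y) = uForm σ x y
  then ⟨⟨uYMat σ e v a, h.1⟩, h.2⟩ else 1

include hinv
variable [Finite F]

theorem uY_apply {e v : Fin n → F} {a : F} (h : UCond σ e v a) (x : Fin n → F) :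
    uAct σ (uY σ e v a) x = x + uForm σ x e • v + (a * uForm σ x e - uForm σ x v) • e := by
  rw [uY, dif_pos ⟨uYMat_det σ h.1 h.2.1 (by rw [uForm_swap σ hinv, h.2.1, map_zero]),
    uYMat_form σ hinv h⟩]
  exact uYMat_mulVec σ e v a x

omit hinv in
omit [Finite F] in
theorem UCond.act {e v : Fin n → F} {a : F} (h : UCond σ e v a) (g : UG n σ) :
    UCond σ (uAct σ g e) (uAct σ g v) a := by
  obtain ⟨h1, h2, h3⟩ := h
  exact ⟨by rw [uAct_form, h1], by rw [uAct_form, h2], by rw [uAct_form, h3]⟩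

theorem conj_uY {e v : Fin n → F} {a : F} (h : UCond σ e v a) (g : UG n σ) :
    g * uY σ e v a * g⁻¹ = uY σ (uAct σ g e) (uAct σ g v) a := by
  refine ug_ext σ fun x => ?_
  have h1 : ∀ y z, uForm σ (uAct σ g⁻¹ y) z = uForm σ y (uAct σ g z) := fun y z => by
    rw [← uAct_form σ g, uAct_cancel_inv]
  rw [uAct_mul, uAct_mul, uY_apply σ hinv h, uY_apply σ hinv (h.act σ g), uAct_add, uAct_add,
    uAct_smul, uAct_smul, uAct_cancel_inv, h1, h1]

theorem uY_mul {e v w : Fin n → F} {a b : F} (hv : UCond σ e v a) (hw : UCond σ e w b) :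
    UCond σ e (v + w) (a + b - uForm σ w v) ∧
      uY σ e v a * uY σ e w b = uY σ e (v + w) (a + b - uForm σ w v) := by
  have hew : uForm σ e w = 0 := by rw [uForm_swap σ hinv, hw.2.1, map_zero]
  have hev : uForm σ e v = 0 := by rw [uForm_swap σ hinv, hv.2.1, map_zero]
  have hwv : σ (uForm σ w v) = uForm σ v w := (uForm_swap σ hinv v w).symm
  have hc : UCond σ e (v + w) (a + b - uForm σ w v) := by
    refine ⟨hv.1, by rw [uForm_add_left, hv.2.1, hw.2.1, add_zero], ?_⟩
    rw [map_sub, map_add, hwv]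
    simp only [uForm_add_left, uForm_add_right]
    linear_combination hv.2.2 + hw.2.2
  refine ⟨hc, ug_ext σ fun x => ?_⟩
  rw [uAct_mul, uY_apply σ hinv hw, uY_apply σ hinv hv, uY_apply σ hinv hc]
  simp only [uForm_add_left, uForm_add_right, uForm_smul_left, hv.1, hw.2.1, hev, mul_zero, add_zero]
  module

theorem uY_zero {e : Fin n → F} (he : uForm σ e e = 0) : uY σ e (0 : Fin n → F) (0 : F) = 1 := by
  refine ug_ext σ fun x => ?_
  rw [uY_apply σ hinv ⟨he, by simp, by simp⟩]
  simp

theorem uY_inv {e v : Fin n → F} {a : F} (h : UCond σ e v a) :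
    UCond σ e (-v) (σ a) ∧ (uY σ e v a)⁻¹ = uY σ e (-v) (σ a) := by
  have hc : UCond σ e (-v) (σ a) := by
    refine ⟨h.1, by rw [uForm_neg_left, h.2.1, neg_zero], ?_⟩
    rw [uForm_neg_left, uForm_neg_right, neg_neg, hinv]
    linear_combination h.2.2
  refine ⟨hc, inv_eq_of_mul_eq_one_right ?_⟩
  rw [(uY_mul σ hinv h hc).2, add_neg_cancel,
    show a + σ a - uForm σ (-v) v = 0 by rw [uForm_neg_left]; linear_combination h.2.2,
    uY_zero σ hinv h.1]

theorem uY_inj {e v w : Fin n → F} {a b : F} (hv : UCond σ e v a) (hw : UCond σ e w b)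
    {z : Fin n → F} (hz : uForm σ z e = 1) (hzv : uForm σ z v = 0) (hzw : uForm σ z w = 0)
    (h : uY σ e v a = uY σ e w b) : v + a • e = w + b • e := by
  have h1 := congrArg (fun g => uAct σ g z) h
  simp only [uY_apply σ hinv hv, uY_apply σ hinv hw, hz, hzv, hzw, one_smul, mul_one, sub_zero,
    add_assoc] at h1
  exact add_left_cancel h1

theorem uY_pow {p : ℕ} [Fact p.Prime] [CharP F p] {e v : Fin n → F} {a : F} (h : UCond σ e v a) :
    ∃ k : ℕ, uY σ e v a ^ p ^ k = 1 := by
  have hpow : ∀ j : ℕ, ∃ b : F, UCond σ e ((j : F) • v) b ∧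
      uY σ e v a ^ j = uY σ e ((j : F) • v) b := by
    intro j
    induction j with
    | zero =>
      refine ⟨0, ⟨h.1, by simp, by simp⟩, ?_⟩
      rw [pow_zero, Nat.cast_zero, zero_smul, uY_zero σ hinv h.1]
    | succ j ih =>
      obtain ⟨b, hb, hb'⟩ := ih
      have h2 := uY_mul σ hinv hb h
      rw [show (j : F) • v + v = ((j + 1 : ℕ) : F) • v by push_cast; module] at h2
      exact ⟨_, h2.1, by rw [pow_succ, hb', h2.2]⟩
  obtain ⟨b, hb, hb'⟩ := hpow p
  rw [CharP.cast_eq_zero, zero_smul] at hb hb'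
  have hT : ∀ j : ℕ, UCond σ e (0 : Fin n → F) ((j : F) * b) ∧
      uY σ e (0 : Fin n → F) b ^ j = uY σ e (0 : Fin n → F) ((j : F) * b) := by
    intro j
    induction j with
    | zero => exact ⟨⟨h.1, by simp, by simp⟩, by rw [pow_zero, Nat.cast_zero, zero_mul, uY_zero σ hinv h.1]⟩
    | succ j ih =>
      have h2 := uY_mul σ hinv ih.1 hb
      rw [show (j : F) * b + b - uForm σ (0 : Fin n → F) (0 : Fin n → F) = ((j + 1 : ℕ) : F) * b by
        rw [uForm_zero_left]; push_cast; ring, add_zero] at h2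
      exact ⟨h2.1, by rw [pow_succ, ih.2, h2.2]⟩
  refine ⟨2, ?_⟩
  rw [pow_two, pow_mul, hb', (hT p).2, CharP.cast_eq_zero, zero_mul, uY_zero σ hinv h.1]

end CfsgLib.Fusion.SUSimple
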