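import Cfsg.Agent.Lib.Fusion.PSUSimple.Radical
import Cfsg.Agent.Lib.Fusion.LocalCrit

/-!
# Strongly closed subgroups in the defining characteristic of the unitary group
-/

set_option autoImplicit false

open Matrix Cfsg Cfsg.FusionSystem CfsgLib.Fusion.UniTri

namespace CfsgLib.Fusion.SUSimple

variable {F : Type*} [Field F] [Finite F] {n : ℕ} (σ : F ≃+* F) (hinv : ∀ a, σ (σ a) = a)

omit [Finite F] in
theorem rev_ne_of_lt {k : Fin n} (hk : k < k.rev) : k.rev ≠ k := hk.ne'

omit [Finite F] in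
theorem ne_rev_of_firstHalf {k l : Fin n} (hk : k < k.rev) (hl : l < l.rev) : l ≠ k.rev := by
  rintro rfl
  rw [Fin.rev_rev] at hl
  exact lt_asymm hk hl

include hinv

omit [Finite F] in
theorem ucond_center {k : Fin n} (hk : k.rev ≠ k) {s : F} (hs : s + σ s = 0) :
    UCond σ (eU k) (0 : Fin n → F) s := by
  refine ⟨?_, by simp, by simpa using hs⟩
  simp [uForm_eU_right, eU_apply, hk]

theorem uY_smul_zero {e : Fin n → F} (he : uForm σ e e = 0) {s : F} (hs : s + σ s = 0) (c : F) :
    UCond σ e (0 : Fin n → F) (s * (c * σ c)) ∧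
      uY σ (c • e) (0 : Fin n → F) s = uY σ e (0 : Fin n → F) (s * (c * σ c)) := by
  have h1 : UCond σ (c • e) (0 : Fin n → F) s :=
    ⟨by simp [uForm_smul_left, uForm_smul_right, he], by simp, by simpa using hs⟩
  have h2 : UCond σ e (0 : Fin n → F) (s * (c * σ c)) := by
    refine ⟨he, by simp, ?_⟩
    simp only [map_mul, hinv, uForm_zero_left, add_zero]
    linear_combination (c * σ c) * hs
  refine ⟨h2, ug_ext σ fun x => ?_⟩
  rw [uY_apply σ hinv h1, uY_apply σ hinv h2]
  simp only [uForm_zero_right, uForm_smul_right, smul_zero, add_zero, sub_zero, smul_smul]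
  congr 2
  ring

theorem uY_pair {e f : Fin n → F} (he : uForm σ e e = 0) (hf : uForm σ f f = 0)
    (hfe : uForm σ f e = 0) {s : F} (hs : s + σ s = 0) (c : F) :
    UCond σ (e + c • f) (0 : Fin n → F) s ∧ UCond σ e ((s * c) • f) 0 ∧
    uY σ e (0 : Fin n → F) s * uY σ f (0 : Fin n → F) (s * (c * σ c)) * uY σ e ((s * c) • f) 0 =
      uY σ (e + c • f) (0 : Fin n → F) s := by
  have hef : uForm σ e f = 0 := by rw [uForm_swap σ hinv, hfe, map_zero]
  have h1 : UCond σ (e + c • f) (0 : Fin n → F) s := by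
    refine ⟨?_, by simp, by simpa using hs⟩
    simp [uForm_add_left, uForm_add_right, uForm_smul_left, uForm_smul_right, he, hf, hfe, hef]
  have h2 : UCond σ e ((s * c) • f) 0 := by
    refine ⟨he, ?_, ?_⟩
    · simp [uForm_smul_left, hfe]
    · simp [uForm_smul_left, uForm_smul_right, hf]
  have h3 : UCond σ e (0 : Fin n → F) s := ⟨he, by simp, by simpa using hs⟩
  refine ⟨h1, h2, ug_ext σ fun x => ?_⟩
  rw [uAct_mul, uAct_mul, uY_apply σ hinv h2, uY_apply σ hinv (uY_smul_zero σ hinv hf hs c).1,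
    uY_apply σ hinv h3, uY_apply σ hinv h1]
  simp only [uForm_zero_right, uForm_add_left, uForm_add_right, uForm_smul_left, uForm_smul_right,
    he, hf, hfe, hef, map_mul, smul_zero, add_zero, sub_zero, mul_zero, zero_mul, zero_sub]
  rw [show σ s = -s by linear_combination hs]
  module

variable (hne : σ ≠ RingEquiv.refl F) (p : ℕ) [Fact p.Prime] [CharP F p] (hn : 4 ≤ n)
include hne hn p

/-- A central element of the unipotent subgroup is a transvection along the first basis vector. -/
theorem eq_transvection_of_central {i₀ : Fin n} (h0 : i₀.val = 0) {c : UG n σ} (hc : c ∈ uU n σ)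
    (hcc : ∀ u ∈ uU n σ, u * c = c * u) :
    ∃ s : F, s + σ s = 0 ∧ c = uY σ (eU i₀) (0 : Fin n → F) s := by
  have h0r : i₀ < i₀.rev := Fin.lt_def.2 (by rw [Fin.val_rev]; omega)
  obtain ⟨hcR, hcR'⟩ : c ∈ uRad n σ 1 :=
    (isCentric_uRad σ hinv hne p le_rfl (by omega) (S := uU n σ) rfl).2 _
      (isConj_refl (uRad_le σ))
      (Subgroup.mem_inf.2 ⟨hc, Subgroup.mem_centralizer_iff.2 fun u hu => hcc u (uRad_le σ hu)⟩)
  have hce : uAct σ c (eU i₀) = eU i₀ := hcR i₀ (by omega)
  obtain ⟨f, hf⟩ : ∃ f : Fin n → F, f = eU i₀.rev := ⟨_, rfl⟩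
  set d := uAct σ c f - f with hd
  set a := d i₀ with ha
  set v := d - a • eU i₀ with hv
  have hv0 : v i₀ = 0 := by simp [hv, ha, eU_apply]
  have hv1 : v i₀.rev = 0 := by
    simp only [hv, hd, hf, Pi.sub_apply, Pi.smul_apply, smul_eq_mul, uAct_eU, eU_apply,
      if_neg h0r.ne', mul_zero, sub_zero, if_true, ((mem_uU_iff σ).1 hc).2, sub_self]
  have hcf : uAct σ c f = f + v + a • eU i₀ := by rw [hv, hd]; abel
  have hcond : UCond σ (eU i₀) v a := by
    refine ⟨?_, ?_, ?_⟩
    · simp [uForm_eU_right, eU_apply, h0r.ne']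
    · rw [uForm_eU_right, hv1]
    · have h1 := uAct_form σ c f f
      rw [hcf, hf] at h1
      simp only [uForm_add_left, uForm_add_right, uForm_smul_left, uForm_smul_right,
        uForm_eU_left, uForm_eU_right, Fin.rev_rev, eU_apply, Pi.add_apply, Pi.smul_apply, smul_eq_mul, hv0, hv1, if_neg h0r.ne,
        if_neg h0r.ne', if_true, map_zero, map_one, mul_zero, mul_one, add_zero, zero_add] at h1
      linear_combination h1
  have hcY : c = uY σ (eU i₀) v a := by
    refine eq_of_agree σ fun j hj => ?_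
    rw [uY_apply σ hinv hcond]
    rcases eq_or_ne j i₀ with rfl | hj0
    · rw [hce]
      simp [uForm_eU_left, eU_apply, hv1, h0r.ne']
    rcases eq_or_ne j i₀.rev with rfl | hjr
    · rw [← hf, hcf, hf]
      simp [uForm_eU_left, eU_apply, hv0]
    have hW := hcR' (eU j) (fun i hi => by
      rw [eU_apply, if_neg]
      rintro rfl
      exact hjr (congrArg Fin.rev (Fin.ext (by omega))))
    have hje : uAct σ c (eU j) = eU j + uAct σ c (eU j) i₀ • eU i₀ := by
      funext x
      rcases eq_or_ne x i₀ with rfl | hx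
      · simp [eU_apply, hj0.symm]
      · have h2 := hW x (by
          have : x.val ≠ i₀.val := fun h => hx (Fin.ext h)
          omega)
        rw [Pi.sub_apply, sub_eq_zero] at h2
        simp [eU_apply, hx, h2]
    have hl : uAct σ c (eU j) i₀ = -uForm σ (eU j) v := by
      have h1 := uAct_form σ c (eU j) f
      rw [hcf, hje, hf] at h1
      simp only [uForm_add_left, uForm_add_right, uForm_smul_left, uForm_smul_right,
        uForm_eU_left, Fin.rev_rev, eU_apply, Pi.add_apply, Pi.smul_apply, smul_eq_mul, hv1, if_neg hj0, if_neg (Ne.symm hj0),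
        if_neg h0r.ne', if_true, map_zero, map_one, mul_zero, mul_one, add_zero, zero_add] at h1
      have h2 : j.rev ≠ i₀ := fun h => hjr (by rw [← h, Fin.rev_rev])
      have h3 : j.rev ≠ i₀.rev := fun h => hj0 (Fin.rev_injective h)
      simp only [if_neg h2, if_neg h3, map_zero, mul_zero, add_zero, zero_add] at h1
      rw [uForm_eU_left]
      linear_combination h1
    rw [hje, hl]
    have h2 : j ≠ i₀.rev := hjr
    simp [uForm_eU_right, eU_apply, h2.symm]
  have hvz : v = 0 := by
    funext m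
    rw [Pi.zero_apply]
    rcases eq_or_ne m i₀ with rfl | hm0
    · exact hv0
    rcases eq_or_ne m i₀.rev with rfl | hmr
    · exact hv1
    obtain ⟨μ, hμ⟩ : ∃ μ, σ μ ≠ μ := by
      by_contra h
      simp only [not_exists, not_not] at h
      exact hne (RingEquiv.ext h)
    have key : ∀ μ : F, μ * σ (v m) = σ μ * v m := by
      intro μ
      set w : Fin n → F := μ • eU m.rev with hw
      obtain ⟨b, hb⟩ := CfsgLib.Transvec.Unitary.exists_trace_eq hne hinv
        (show σ (-uForm σ w w) = -uForm σ w w by rw [map_neg, ← uForm_swap σ hinv])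
      have hm' : i₀ ≠ m.rev := fun h => hmr (by rw [h, Fin.rev_rev])
      have hcw : UCond σ (eU i₀) w b := by
        refine ⟨hcond.1, ?_, by linear_combination hb⟩
        simp [hw, uForm_smul_left, uForm_eU_right, eU_apply, Ne.symm hm0]
      have hmem : uY σ (eU i₀) w b ∈ uU n σ := uY_mem_uU σ hinv hcw (k := i₀) h0r
        (fun j hj => by simp [eU_apply, hj.ne'])
        (fun j hj => by
          have hjv : j = i₀.rev := le_antisymm (Fin.le_def.2 (by rw [Fin.val_rev]; omega)) hj
          simp [hw, hjv, eU_apply, Ne.symm hm0])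
      have h1 := hcc _ hmem
      rw [hcY] at h1
      obtain ⟨hA, hA'⟩ := uY_mul σ hinv hcw hcond
      obtain ⟨hB, hB'⟩ := uY_mul σ hinv hcond hcw
      rw [hA', hB'] at h1
      have hzv : uForm σ f v = 0 := by rw [hf, uForm_eU_left, Fin.rev_rev, hv0, map_zero]
      have hzw : uForm σ f w = 0 := by
        rw [hf, uForm_eU_left, Fin.rev_rev, hw, Pi.smul_apply, eU_apply, if_neg hm', smul_zero,
          map_zero]
      have h2 := congrFun (uY_inj σ hinv hA hB (z := f)
        (by rw [hf, uForm_eU_right, eU_apply, if_pos rfl])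
        (by rw [uForm_add_right, hzw, hzv, add_zero])
        (by rw [uForm_add_right, hzv, hzw, add_zero]) h1) i₀
      simp only [Pi.add_apply, Pi.smul_apply, smul_eq_mul, eU_apply, if_true, mul_one, hw,
        if_neg hm', mul_zero, hv0, uForm_smul_left, uForm_smul_right, uForm_eU_left, uForm_eU_right,
        Fin.rev_rev] at h2
      linear_combination h2
    have h1 := key 1
    rw [map_one, one_mul, one_mul] at h1
    have h2 := key μ
    rw [h1] at h2
    exact (mul_eq_mul_right_iff.1 h2).resolve_left (Ne.symm hμ)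
  refine ⟨a, ?_, by rw [hcY, hvz]⟩
  have := hcond.2.2
  rwa [hvz, uForm_zero_left, add_zero] at this

omit hne hn
variable {p}

/-- A nontrivial strongly closed subgroup is everything. -/
theorem stronglyClosed_eq_uU (hne : σ ≠ RingEquiv.refl F) (hn : 4 ≤ n) {S : Sylow p (UG n σ)}
    (hS : (S : Subgroup (UG n σ)) = uU n σ) {T : Subgroup (UG n σ)}
    (hT : (groupFusionSystem (S : Subgroup (UG n σ))).StronglyClosed T) :
    T = ⊥ ∨ T = (S : Subgroup (UG n σ)) := by
  classical
  rcases eq_or_ne T ⊥ with hT1 | hT1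
  · exact Or.inl hT1
  refine Or.inr (le_antisymm hT.1 ?_)
  obtain ⟨c, hcT, hc1, hcc⟩ := exists_central_mem_of_stronglyClosed S hT hT1
  rw [hS] at hcc
  obtain ⟨i₀, h0⟩ : ∃ i₀ : Fin n, i₀.val = 0 := ⟨⟨0, by omega⟩, rfl⟩
  obtain ⟨i₁, h1⟩ : ∃ i₁ : Fin n, i₁.val = 1 := ⟨⟨1, by omega⟩, rfl⟩
  have h0r : i₀ < i₀.rev := Fin.lt_def.2 (by rw [Fin.val_rev]; omega)
  have h1r : i₁ < i₁.rev := Fin.lt_def.2 (by rw [Fin.val_rev]; omega)
  have h01 : i₀ ≠ i₁ := fun h => by rw [h, h1] at h0; exact one_ne_zero h0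
  obtain ⟨s, hs, rfl⟩ := eq_transvection_of_central σ hinv hne p hn h0 (hS.le (hT.1 hcT)) hcc
  have hs0 : s ≠ 0 := fun h => hc1 (by
    rw [h]
    exact uY_zero σ hinv (by simp [uForm_eU_right, eU_apply, h0r.ne']))
  have hmove : ∀ {e v : Fin n → F} {a : F}, UCond σ e v a → uY σ e v a ∈ T → ∀ g : UG n σ,
      uY σ (uAct σ g e) (uAct σ g v) a ∈ uU n σ → uY σ (uAct σ g e) (uAct σ g v) a ∈ T := by
    intro e v a h hmem g hU
    rw [← conj_uY σ hinv h g] at hU ⊢
    exact conj_mem_of_stronglyClosed hT hmem g (hS.ge hU)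
  have hmem0 : ∀ {k : Fin n} {s' : F}, k < k.rev → s' + σ s' = 0 →
      uY σ (eU k) (0 : Fin n → F) s' ∈ uU n σ := fun {k s'} hk hs' =>
    uY_mem_uU σ hinv (ucond_center σ hinv hk.ne' hs') hk (fun j hj => by simp [eU_apply, hj.ne'])
      (fun _ _ => rfl)
  have hTk : ∀ k : Fin n, k < k.rev → uY σ (eU k) (0 : Fin n → F) s ∈ T := by
    intro k hk
    rcases eq_or_ne k i₀ with rfl | hk0
    · exact hcT
    have hg : uAct σ (uM σ i₀ k 1) (eU i₀) = eU k := by
      rw [uM_fst σ hinv h0r.ne' hk.ne' hk0 (ne_rev_of_firstHalf h0r hk) one_ne_zero, one_smul]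
    have h2 := hmove (ucond_center σ hinv h0r.ne' hs) hcT (uM σ i₀ k 1)
    rw [hg, uAct_zero] at h2
    exact h2 (hmem0 hk hs)
  have hT0 : ∀ k : Fin n, k < k.rev → ∀ s' : F, s' + σ s' = 0 →
      uY σ (eU k) (0 : Fin n → F) s' ∈ T := by
    intro k hk s' hs'
    obtain ⟨j, hj, hjk⟩ : ∃ j : Fin n, j < j.rev ∧ j ≠ k := by
      rcases eq_or_ne k i₀ with rfl | hk0
      · exact ⟨i₁, h1r, h01.symm⟩
      · exact ⟨i₀, h0r, hk0.symm⟩
    obtain ⟨l, hl⟩ := CfsgLib.Transvec.Unitary.exists_norm_eq hne hinv (b := s' / s) (by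
      rw [map_div₀, show σ s' = -s' by linear_combination hs', show σ s = -s by linear_combination hs,
        neg_div_neg_eq])
    rcases eq_or_ne l 0 with rfl | hl0
    · have hz : s' = 0 := by
        rw [zero_mul] at hl
        exact (div_eq_zero_iff.1 hl.symm).resolve_right hs0
      rw [hz, uY_zero σ hinv (ucond_center σ hinv hk.ne' hs').1]
      exact T.one_mem
    have hg : uAct σ (uM σ j k l * uM σ k j 1) (eU k) = l • eU k := by
      rw [uAct_mul, uM_fst σ hinv hk.ne' hj.ne' hjk (ne_rev_of_firstHalf hk hj) one_ne_zero, one_smul,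
        uM_fst σ hinv hj.ne' hk.ne' hjk.symm (ne_rev_of_firstHalf hj hk) hl0]
    have h2 := hmove (ucond_center σ hinv hk.ne' hs) (hTk k hk) (uM σ j k l * uM σ k j 1)
    rw [hg, uAct_zero, (uY_smul_zero σ hinv (ucond_center σ hinv hk.ne' hs).1 hs l).2, hl,
      mul_div_cancel₀ _ hs0] at h2
    exact h2 (hmem0 hk hs')
  let Good : Fin n → (Fin n → F) → Prop := fun k v =>
    uForm σ v (eU k) = 0 ∧ ∀ a, UCond σ (eU k) v a → uY σ (eU k) v a ∈ T
  have good_of_one : ∀ {k : Fin n} {v : Fin n → F} {a : F}, k < k.rev → UCond σ (eU k) v a →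
      uY σ (eU k) v a ∈ T → Good k v := by
    intro k v a hk h hmem
    refine ⟨h.2.1, fun b hb => ?_⟩
    have hd : (b - a) + σ (b - a) = 0 := by
      rw [map_sub]
      linear_combination hb.2.2 - h.2.2
    have h2 := (uY_mul σ hinv h (ucond_center σ hinv hk.ne' hd)).2
    rw [add_zero, uForm_zero_left, sub_zero, add_sub_cancel] at h2
    rw [← h2]
    exact T.mul_mem hmem (hT0 k hk _ hd)
  have good_add : ∀ {k : Fin n} {v w : Fin n → F}, Good k v → Good k w → Good k (v + w) := by
    rintro k v w ⟨hv, hv'⟩ ⟨hw, hw'⟩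
    refine ⟨by rw [uForm_add_left, hv, hw, add_zero], fun a ha => ?_⟩
    obtain ⟨b, hb⟩ := CfsgLib.Transvec.Unitary.exists_trace_eq hne hinv
      (show σ (-uForm σ w w) = -uForm σ w w by rw [map_neg, ← uForm_swap σ hinv])
    have hwb : UCond σ (eU k) w b := ⟨ha.1, hw, by linear_combination hb⟩
    have hva : UCond σ (eU k) v (a - b + uForm σ w v) := by
      refine ⟨ha.1, hv, ?_⟩
      have h3 := ha.2.2
      simp only [uForm_add_left, uForm_add_right] at h3
      rw [map_add, map_sub, show σ (uForm σ w v) = uForm σ v w from (uForm_swap σ hinv v w).symm]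
      linear_combination h3 - hb
    have h2 := (uY_mul σ hinv hva hwb).2
    rw [show a - b + uForm σ w v + b - uForm σ w v = a by ring] at h2
    rw [← h2]
    exact T.mul_mem (hv' _ hva) (hw' _ hwb)
  have good_zero : ∀ {k : Fin n}, k < k.rev → Good k 0 := fun {k} hk =>
    good_of_one hk (ucond_center σ hinv hk.ne' (s := 0) (by simp))
      (hT0 k hk 0 (by simp))
  -- the first half
  have good_first : ∀ {k l : Fin n}, k < k.rev → l < l.rev → l ≠ k → ∀ μ : F, Good k (μ • eU l) := by
    intro k l hk hl hlk μ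
    have hkk := (ucond_center σ hinv hk.ne' hs).1
    have hll := (ucond_center σ hinv hl.ne' hs).1
    have hlk' : uForm σ (eU l) (eU k : Fin n → F) = 0 := by
      simp [uForm_eU_right, eU_apply, (ne_rev_of_firstHalf hk hl).symm]
    obtain ⟨hA, hB, hprod⟩ := uY_pair σ hinv hkk hll hlk' hs (μ / s)
    rw [mul_div_cancel₀ μ hs0] at hB hprod
    refine good_of_one hk hB ?_
    have hsk : uY σ (eU k + (μ / s) • eU l) (0 : Fin n → F) s ∈ T := by
      have hg : uAct σ (uE σ k l (μ / s)) (eU k) = eU k + (μ / s) • eU l :=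
        uE_move σ hinv hk.ne' hl.ne' hlk (ne_rev_of_firstHalf hk hl) _
      have h2 := hmove (ucond_center σ hinv hk.ne' hs) (hTk k hk) (uE σ k l (μ / s))
      rw [hg, uAct_zero] at h2
      refine h2 ?_
      rcases lt_or_gt_of_ne hlk with hlt | hlt
      · exact uY_mem_uU σ hinv hA hk (fun j hj => by simp [eU_apply, hj.ne', (hlt.trans hj).ne'])
          (fun _ _ => rfl)
      · exact uY_mem_uU σ hinv hA hl (fun j hj => by simp [eU_apply, hj.ne', (hlt.trans hj).ne'])
          (fun _ _ => rfl)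
    have e1 : uY σ (eU k) (μ • eU l) 0 = (uY σ (eU k) (0 : Fin n → F) s *
        uY σ (eU l) (0 : Fin n → F) (s * (μ / s * σ (μ / s))))⁻¹ *
        uY σ (eU k + (μ / s) • eU l) (0 : Fin n → F) s := by
      rw [← hprod, inv_mul_cancel_left]
    rw [e1]
    refine T.mul_mem (T.inv_mem (T.mul_mem (hTk k hk) (hT0 l hl _ ?_))) hsk
    have := (uY_smul_zero σ hinv hll hs (μ / s)).1.2.2
    rwa [uForm_zero_left, add_zero] at this
  -- the second half
  have good_second : ∀ {k l : Fin n}, k < k.rev → l.rev < l → l < k.rev → ∀ μ : F,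
      Good k (μ • eU l) := by
    intro k l hk hl hlk μ
    have hj : l.rev < l.rev.rev := by rwa [Fin.rev_rev]
    have hkj : k < l.rev := Fin.rev_lt_rev.1 (by rwa [Fin.rev_rev])
    have hσs : σ s ≠ 0 := (map_ne_zero_iff _ σ.injective).2 hs0
    obtain ⟨hg1, hg2⟩ : uAct σ (uW σ l.rev (0 : Fin n → F) s) (eU k) = eU k ∧
        uAct σ (uW σ l.rev (0 : Fin n → F) s) (eU l.rev) = (σ s)⁻¹ • eU l := by
      have h2 : s + σ s + uForm σ (0 : Fin n → F) 0 = 0 := by simpa using hs
      refine ⟨uW_fix σ hinv hj.ne' rfl rfl hs0 h2 (by simp [eU_apply, hkj.ne'])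
        (by rw [Fin.rev_rev]; simp [eU_apply, (hkj.trans hl).ne']) (uForm_zero_right σ _), ?_⟩
      rw [uW_fst σ hinv hj.ne' rfl rfl hs0 h2, Fin.rev_rev]
    have hsrc := (good_first hk hj hkj.ne' (μ * σ s))
    have hc : UCond σ (eU k) ((μ * σ s) • eU l.rev) 0 := by
      refine ⟨(ucond_center σ hinv hk.ne' hs).1, hsrc.1, ?_⟩
      simp [uForm_smul_left, uForm_smul_right, uForm_eU_right, eU_apply, hl.ne, hl.ne']
    have h2 := hmove hc (hsrc.2 0 hc) (uW σ l.rev (0 : Fin n → F) s)
    have h3 := hc.act σ (uW σ l.rev (0 : Fin n → F) s)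
    rw [hg1, uAct_smul, hg2, smul_smul, mul_assoc, mul_inv_cancel₀ hσs, mul_one] at h2 h3
    exact good_of_one hk h3 (h2 (uY_mem_uU σ hinv h3 hk (fun j hj => by simp [eU_apply, hj.ne'])
      (fun j hj => by simp [eU_apply, (lt_of_lt_of_le hlk hj).ne'])))
  -- the middle
  have good_mid0 : ∀ {w : Fin n}, w.rev = w → ∀ μ : F, Good i₀ (μ • eU w) := by
    intro w hw μ
    obtain ⟨a, ha⟩ := CfsgLib.Transvec.Unitary.exists_trace_eq hne hinv
      (show σ (-1 : F) = -1 by simp)
    have hw0 : w ≠ i₀ := fun h => h0r.ne' (by rw [← h]; exact hw)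
    have hw1 : w ≠ i₁ := fun h => h1r.ne' (by rw [← h]; exact hw)
    have hw0' : w ≠ i₀.rev := fun h => h0r.ne (by
      have := congrArg Fin.rev h
      rw [Fin.rev_rev, hw] at this
      exact this.symm.trans h)
    have hw1' : w ≠ i₁.rev := fun h => h1r.ne (by
      have := congrArg Fin.rev h
      rw [Fin.rev_rev, hw] at this
      exact this.symm.trans h)
    have h01' : i₀ ≠ i₁.rev := ne_rev_of_firstHalf h1r h0r
    have h10' : i₁ ≠ i₀.rev := ne_rev_of_firstHalf h0r h1r
    have h01r : i₀.rev ≠ i₁.rev := fun h => h01 (Fin.rev_injective h)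
    have hgc : UCond σ (eU i₁.rev) (eU w) a := by
      refine ⟨?_, ?_, ?_⟩
      · simp [uForm_eU_right, eU_apply, h1r.ne]
      · simp [uForm_eU_right, eU_apply, hw1.symm]
      · rw [uForm_eU_right, eU_apply, if_pos hw]
        linear_combination ha
    have hg0 : uAct σ (uY σ (eU i₁.rev) (eU w) a) (eU i₀) = eU i₀ := by
      rw [uY_apply σ hinv hgc]
      simp [uForm_eU_right, eU_apply, h01.symm, hw, hw0]
    have hg1 : uAct σ (uY σ (eU i₁.rev) (eU w) a) (eU i₁) = eU i₁ + eU w + a • eU i₁.rev := by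
      rw [uY_apply σ hinv hgc]
      simp [uForm_eU_right, eU_apply, hw, hw1]
    have hsrc := good_first h0r h1r h01.symm μ
    have hc : UCond σ (eU i₀) (μ • eU i₁) 0 := by
      refine ⟨(ucond_center σ hinv h0r.ne' hs).1, hsrc.1, ?_⟩
      simp [uForm_smul_left, uForm_smul_right, uForm_eU_right, eU_apply, h1r.ne']
    have h2 := hmove hc (hsrc.2 0 hc) (uY σ (eU i₁.rev) (eU w) a)
    have h3 := hc.act σ (uY σ (eU i₁.rev) (eU w) a)
    rw [hg0, uAct_smul, hg1] at h2 h3
    have hgood : Good i₀ (μ • (eU i₁ + eU w + a • eU i₁.rev)) :=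
      good_of_one h0r h3 (h2 (uY_mem_uU σ hinv h3 h0r (fun j hj => by simp [eU_apply, hj.ne'])
        (fun j hj => by
          have hj' : j = i₀.rev := le_antisymm (Fin.le_def.2 (by rw [Fin.val_rev]; omega)) hj
          subst hj'
          simp [eU_apply, h10'.symm, hw0'.symm, h01r])))
    have hlt : i₁.rev < i₀.rev := Fin.rev_lt_rev.2 (Fin.lt_def.2 (by omega))
    have h4 := good_add hgood (good_add (good_first h0r h1r h01.symm (-μ))
      (good_second h0r (by rw [Fin.rev_rev]; exact h1r) hlt (-(μ * a))))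
    rwa [show μ • (eU i₁ + eU w + a • eU i₁.rev : Fin n → F) + ((-μ) • eU i₁ + (-(μ * a)) • eU i₁.rev) =
      μ • eU w by module] at h4
  have good_mid : ∀ {k w : Fin n}, k < k.rev → w.rev = w → ∀ μ : F, Good k (μ • eU w) := by
    intro k w hk hw μ
    rcases eq_or_ne k i₀ with rfl | hk0
    · exact good_mid0 hw μ
    have hsrc := good_mid0 hw μ
    obtain ⟨b, hb⟩ := CfsgLib.Transvec.Unitary.exists_trace_eq hne hinv
      (show σ (-uForm σ (μ • eU w : Fin n → F) (μ • eU w)) = -uForm σ (μ • eU w : Fin n → F) (μ • eU w) by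
        rw [map_neg, ← uForm_swap σ hinv])
    have hc : UCond σ (eU i₀) (μ • eU w) b :=
      ⟨(ucond_center σ hinv h0r.ne' hs).1, hsrc.1, by linear_combination hb⟩
    have hwk : w ≠ k := fun h => hk.ne' (by rw [← h]; exact hw)
    have hwk' : w < k.rev := by
      rcases lt_trichotomy w k.rev with h | h | h
      · exact h
      · exact absurd (by rw [← Fin.rev_rev k, ← h, hw]) hwk.symm
      · have := Fin.rev_lt_rev.2 h
        rw [Fin.rev_rev, hw] at this
        exact absurd (hk.trans h) (lt_asymm this)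
    have hw0 : w ≠ i₀ := fun h => h0r.ne' (by rw [← h]; exact hw)
    have hw0' : w ≠ i₀.rev := fun h => h0r.ne (by
      have := congrArg Fin.rev h
      rw [Fin.rev_rev, hw] at this
      exact this.symm.trans h)
    have h2 := hmove hc (hsrc.2 b hc) (uM σ i₀ k 1)
    have h3 := hc.act σ (uM σ i₀ k 1)
    have hfix : uAct σ (uM σ i₀ k 1) (eU w) = eU w :=
      uM_fix σ hinv h0r.ne' hk.ne' hk0 1 (by simp [eU_apply, hw0.symm])
        (by simp [eU_apply, hwk'.ne']) (by simp [eU_apply, hwk.symm]) (by simp [eU_apply, hw0'.symm])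
    rw [uM_fst σ hinv h0r.ne' hk.ne' hk0 (ne_rev_of_firstHalf h0r hk) one_ne_zero, one_smul,
      uAct_smul, hfix] at h2 h3
    exact good_of_one hk h3 (h2 (uY_mem_uU σ hinv h3 hk (fun j hj => by simp [eU_apply, hj.ne'])
      (fun j hj => by simp [eU_apply, (lt_of_lt_of_le hwk' hj).ne'])))
  have hall : ∀ {k : Fin n} {v : Fin n → F}, k < k.rev → (∀ j, j ≤ k ∨ k.rev ≤ j → v j = 0) →
      Good k v := by
    intro k v hk hv
    rw [eq_sum_eU v]
    refine Finset.sum_induction _ (Good k) (fun _ _ => good_add) (good_zero hk) fun l _ => ?_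
    by_cases hl : k < l ∧ l < k.rev
    · rcases lt_trichotomy l l.rev with h | h | h
      · exact good_first hk h hl.1.ne' _
      · exact good_mid hk h.symm _
      · exact good_second hk h hl.2 _
    · rw [hv l (by rw [not_and_or, not_lt, not_lt] at hl; exact hl), zero_smul]
      exact good_zero hk
  -- every element of the unipotent subgroup
  rw [hS]
  suffices H : ∀ (d k : ℕ) (g : UG n σ), g ∈ uU n σ → n ≤ k + d →
      (∀ i : Fin n, i.val < k → i < i.rev →
        uAct σ g (eU i) = eU i ∧ uAct σ g (eU i.rev) = eU i.rev) → g ∈ T from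
    fun g hg => H n 0 g hg (by omega) fun i hi => absurd hi (by omega)
  intro d
  induction d with
  | zero =>
    intro k g hg hk hfix
    rw [eq_one_of_fix σ (g := g) fun j hj => ?_]
    · exact T.one_mem
    rcases lt_or_gt_of_ne hj with h | h
    · have h2 := (hfix j.rev (by omega) (by rwa [Fin.rev_rev])).2
      rwa [Fin.rev_rev] at h2
    · exact (hfix j (by omega) h).1
  | succ d ih =>
    intro k g hg hk hfix
    by_cases hex : ∃ i : Fin n, i.val = k ∧ i < i.rev
    swap
    · exact ih (k + 1) g hg (by omega) fun i hi hir =>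
        hfix i (by
          have : i.val ≠ k := fun h => hex ⟨i, h, hir⟩
          omega) hir
    obtain ⟨i, hik, hi⟩ := hex
    obtain ⟨hu1, hu2⟩ := (mem_uU_iff σ).1 hg
    obtain ⟨f, hf⟩ : ∃ f : Fin n → F, f = eU i.rev := ⟨_, rfl⟩
    have hrow : ∀ (x : Fin n → F) (j : Fin n), j < i →
        uAct σ g x j = x j := by
      intro x j hj
      have h2 := uAct_form σ g x (eU j.rev)
      rw [(hfix j (by rw [← hik]; exact Fin.lt_def.1 hj) (hj.trans (hi.trans (Fin.rev_lt_rev.2 hj)))).2,
        uForm_eU_right, uForm_eU_right, Fin.rev_rev] at h2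
      exact h2
    have hge : uAct σ g (eU i) = eU i := by
      funext x
      rcases lt_trichotomy x i with h | rfl | h
      · exact hrow _ x h
      · rw [uAct_eU, hu2, eU_apply, if_pos rfl]
      · rw [uAct_eU, hu1 x i h, eU_apply, if_neg h.ne']
    set dd := uAct σ g f - f with hdd
    set a := dd i with ha
    set v := dd - a • eU i with hv
    have hgf : uAct σ g f = f + v + a • eU i := by rw [hv, hdd]; abel
    have hsupp : ∀ j, j ≤ i ∨ i.rev ≤ j → v j = 0 := by
      rintro j (hj | hj)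
      · rcases hj.eq_or_lt with rfl | hj
        · simp [hv, ha, eU_apply]
        · simp [hv, hdd, hrow f j hj, eU_apply, hj.ne]
      · have hji : j ≠ i := (lt_of_lt_of_le hi hj).ne'
        simp only [hv, hdd, hf, Pi.sub_apply, Pi.smul_apply, smul_eq_mul, uAct_eU, eU_apply,
          if_neg hji, mul_zero, sub_zero]
        rcases hj.eq_or_lt with rfl | hj'
        · rw [hu2, if_pos rfl, sub_self]
        · rw [hu1 j _ hj', if_neg hj'.ne', sub_self]
    have hvi : v i = 0 := hsupp i (Or.inl le_rfl)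
    have hvr : v i.rev = 0 := hsupp _ (Or.inr le_rfl)
    have hcond : UCond σ (eU i) v a := by
      refine ⟨?_, ?_, ?_⟩
      · simp [uForm_eU_right, eU_apply, hi.ne']
      · rw [uForm_eU_right, hvr]
      · have h2 := uAct_form σ g f f
        rw [hgf, hf] at h2
        simp only [uForm_add_left, uForm_add_right, uForm_smul_left, uForm_smul_right,
          uForm_eU_left, uForm_eU_right, Fin.rev_rev, eU_apply, Pi.add_apply, Pi.smul_apply, smul_eq_mul, hvi, hvr, if_neg hi.ne,
          if_neg hi.ne', if_true, map_zero, map_one, mul_zero, mul_one, add_zero, zero_add] at h2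
        linear_combination h2
    have hYT := (hall hi hsupp).2 a hcond
    have hYU := uY_mem_uU σ hinv hcond hi (fun j hj => by simp [eU_apply, hj.ne'])
      (fun j hj => hsupp j (Or.inr hj))
    set Y := uY σ (eU i) v a with hY
    have hYf : ∀ z : Fin n → F, uForm σ z (eU i) = 0 → uForm σ z v = 0 → uAct σ Y⁻¹ z = z := by
      intro z h2 h3
      have : uAct σ Y z = z := by rw [hY, uY_apply σ hinv hcond, h2, h3]; simp
      conv_lhs => rw [← this, uAct_inv_cancel]
    rw [← mul_inv_cancel_left Y g]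
    refine T.mul_mem hYT (ih (k + 1) _ (mul_mem (inv_mem hYU) hg) (by omega) fun m hm hmr => ?_)
    rcases eq_or_ne m i with rfl | hmi
    · refine ⟨?_, ?_⟩
      · rw [uAct_mul, hge]
        exact hYf _ hcond.1 (by simp [uForm_eU_left, hvr])
      · have : uAct σ Y (eU m.rev) = uAct σ g (eU m.rev) := by
          rw [hY, uY_apply σ hinv hcond, ← hf, hgf, hf]
          simp [uForm_eU_left, eU_apply, hvi]
        rw [uAct_mul, ← this, uAct_inv_cancel]
    · have hlt : m < i := Fin.lt_def.2 (by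
        have : m.val ≠ i.val := fun h => hmi (Fin.ext h)
        omega)
      obtain ⟨hf1, hf2⟩ := hfix m (by rw [← hik]; exact Fin.lt_def.1 hlt) hmr
      have h3 : i.rev ≠ m := (hlt.trans hi).ne'
      have h4 : i.rev ≠ m.rev := fun h => hmi (Fin.rev_injective h).symm
      refine ⟨?_, ?_⟩
      · rw [uAct_mul, hf1]
        refine hYf _ (by simp [uForm_eU_right, eU_apply, h3]) ?_
        rw [uForm_eU_left, hsupp _ (Or.inr (Fin.rev_le_rev.2 hlt.le)), map_zero]
      · rw [uAct_mul, hf2]
        refine hYf _ (by simp [uForm_eU_right, eU_apply, h4]) ?_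
        rw [uForm_eU_left, Fin.rev_rev, hsupp _ (Or.inl hlt.le), map_zero]

end CfsgLib.Fusion.SUSimple
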