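import Cfsg.Agent.Lib.Fusion.PSUSimple.Radical

/-!
# The torus of the unitary group inside the local subgroups
-/

set_option autoImplicit false

open Matrix CfsgLib.Fusion.UniTri

namespace CfsgLib.Fusion.SUSimple

variable {F : Type*} [Field F] [Finite F] {n : ℕ} (σ : F ≃+* F) (hinv : ∀ a, σ (σ a) = a)

/-- Generators of a local subgroup. -/
def locSet (p k : ℕ) : Set (UG n σ) :=
  {h | h ∈ Subgroup.normalizer (uRad n σ k : Set (UG n σ)) ∧ ∃ m : ℕ, orderOf h = p ^ m}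

include hinv

theorem uE_swap {a b : Fin n} (ha : a.rev ≠ a) (hb : b.rev ≠ b) (hab : b ≠ a) (c : F) :
    uE σ a b c = uE σ b.rev a.rev (-σ c) := by
  have hb' : b.rev.rev ≠ b.rev := by rw [Fin.rev_rev]; exact hb.symm
  have ha' : a.rev.rev ≠ a.rev := by rw [Fin.rev_rev]; exact ha.symm
  refine ug_ext σ fun x => ?_
  rw [uE_apply σ hinv ha hb hab, uE_apply σ hinv hb' ha' (fun h => hab (Fin.rev_injective h).symm)]
  simp only [Fin.rev_rev, map_neg, hinv]
  module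

theorem uM_swap {a b : Fin n} (ha : a.rev ≠ a) (hb : b.rev ≠ b) (hab : b ≠ a) (c : F) :
    uM σ a b c = uM σ b.rev a.rev (-σ c) := by
  have h1 : -(-σ c)⁻¹ = -σ (-c⁻¹) := by rw [map_neg, map_inv₀, inv_neg]
  rw [uM, uM, uE_swap σ hinv ha hb hab, uE_swap σ hinv hb ha hab.symm, h1]

/-- The diagonal element of a pair of indices. -/
noncomputable def uPair (a b : Fin n) (x : F) : UG n σ := uM σ a b x * uM σ a b (-1)

theorem uPair_spec {a b : Fin n} (ha : a.rev ≠ a) (hb : b.rev ≠ b) (hab : b ≠ a) (hab' : b ≠ a.rev)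
    {x : F} (hx : x ≠ 0) :
    IsDiagU σ (uPair σ a b x) ∧ (uPair σ a b x).1.1 a a = x⁻¹ ∧
      ∀ l : Fin n, l.rev ≠ l → l ≠ a → l ≠ b → l ≠ a.rev → l ≠ b.rev →
        (uPair σ a b x).1.1 l l = 1 := by
  have h1 : (-1 : F) ≠ 0 := neg_ne_zero.2 one_ne_zero
  have hb' : b.rev.rev ≠ b.rev := by rw [Fin.rev_rev]; exact hb.symm
  have ha' : a.rev.rev ≠ a.rev := by rw [Fin.rev_rev]; exact ha.symm
  have hba : a.rev ≠ b.rev := fun h => hab (Fin.rev_injective h).symm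
  have hba' : a.rev ≠ b.rev.rev := by rw [Fin.rev_rev]; exact hab'.symm
  have hσ : ∀ y : F, y ≠ 0 → -σ y ≠ 0 := fun y hy =>
    neg_ne_zero.2 ((map_ne_zero_iff _ σ.injective).2 hy)
  have eA : uAct σ (uPair σ a b x) (eU a) = x⁻¹ • eU a := by
    rw [uPair, uAct_mul, uM_fst σ hinv ha hb hab hab' h1, uAct_smul,
      uM_snd σ hinv ha hb hab hab' hx, smul_smul, neg_one_mul, neg_neg]
  have eB : uAct σ (uPair σ a b x) (eU b) = x • eU b := by
    rw [uPair, uAct_mul, uM_snd σ hinv ha hb hab hab' h1, uAct_smul,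
      uM_fst σ hinv ha hb hab hab' hx, smul_smul]
    simp
  have eA' : ∃ c : F, uAct σ (uPair σ a b x) (eU a.rev) = c • eU a.rev := by
    rw [uPair, uM_swap σ hinv ha hb hab x, uM_swap σ hinv ha hb hab (-1), uAct_mul,
      uM_snd σ hinv hb' ha' hba hba' (hσ _ h1), uAct_smul,
      uM_fst σ hinv hb' ha' hba hba' (hσ _ hx), smul_smul]
    exact ⟨_, rfl⟩
  have eB' : ∃ c : F, uAct σ (uPair σ a b x) (eU b.rev) = c • eU b.rev := by
    rw [uPair, uM_swap σ hinv ha hb hab x, uM_swap σ hinv ha hb hab (-1), uAct_mul,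
      uM_fst σ hinv hb' ha' hba hba' (hσ _ h1), uAct_smul,
      uM_snd σ hinv hb' ha' hba hba' (hσ _ hx), smul_smul]
    exact ⟨_, rfl⟩
  have hfix : ∀ l : Fin n, l ≠ a → l ≠ b → l ≠ a.rev → l ≠ b.rev →
      uAct σ (uPair σ a b x) (eU l) = eU l := by
    intro l h2 h3 h4 h5
    have hf : ∀ y : F, uAct σ (uM σ a b y) (eU l) = eU l := fun y =>
      uM_fix σ hinv ha hb hab y (by simp [eU_apply, h2.symm]) (by simp [eU_apply, h5.symm])
        (by simp [eU_apply, h3.symm]) (by simp [eU_apply, h4.symm])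
    rw [uPair, uAct_mul, hf, hf]
  refine ⟨isDiagU_of_scale σ fun l hl => ?_, ?_, fun l _ h2 h3 h4 h5 => ?_⟩
  · by_cases h2 : l = a
    · exact ⟨_, by rw [h2]; exact eA⟩
    by_cases h3 : l = b
    · exact ⟨_, by rw [h3]; exact eB⟩
    by_cases h4 : l = a.rev
    · subst h4; exact eA'
    by_cases h5 : l = b.rev
    · subst h5; exact eB'
    exact ⟨1, by rw [hfix l h2 h3 h4 h5, one_smul]⟩
  · rw [← uAct_eU σ, eA]
    simp [eU_apply]
  · rw [← uAct_eU σ, hfix l h2 h3 h4 h5]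
    simp [eU_apply]

variable (p : ℕ) [Fact p.Prime] [CharP F p]

theorem uY_mem_locSet {e v : Fin n → F} {a : F} (h : UCond σ e v a) {k : ℕ}
    (h1 : ∀ i : Fin n, i.val < k → InW k (uAct σ (uY σ e v a) (eU i)))
    (h2 : ∀ i : Fin n, i.val < k → InW k (uAct σ (uY σ e (-v) (σ a)) (eU i))) :
    uY σ e v a ∈ locSet σ p k := by
  refine ⟨mem_normalizer_uRad σ h1 (by rw [(uY_inv σ hinv h).2]; exact h2), ?_⟩
  obtain ⟨m, hm⟩ := uY_pow σ hinv (p := p) h
  obtain ⟨j, -, hj⟩ := (Nat.dvd_prime_pow Fact.out).1 (orderOf_dvd_of_pow_eq_one hm)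
  exact ⟨j, hj⟩

theorem uE_mem_locSet {a b : Fin n} (ha : a.rev ≠ a) (hb : b.rev ≠ b) (hab : b ≠ a) {k : ℕ}
    (h : ∀ d : F, ∀ i : Fin n, i.val < k → InW k (uAct σ (uE σ a b d) (eU i))) (c : F) :
    uE σ a b c ∈ locSet σ p k := by
  refine uY_mem_locSet σ hinv p (ucond_root σ ha hb hab c) (h c) ?_
  rw [map_zero, ← neg_smul]
  exact h (-c)

theorem uPair_mem {a b : Fin n} (ha : a.rev ≠ a) (hb : b.rev ≠ b) (hab : b ≠ a) {k : ℕ}
    (h : ∀ d : F, ∀ i : Fin n, i.val < k → InW k (uAct σ (uE σ a b d) (eU i)))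
    (h' : ∀ d : F, ∀ i : Fin n, i.val < k → InW k (uAct σ (uE σ b a d) (eU i))) (x : F) :
    uPair σ a b x ∈ Subgroup.closure (locSet σ p k) := by
  have h1 : ∀ c : F, uM σ a b c ∈ Subgroup.closure (locSet σ p k) := fun c =>
    mul_mem (mul_mem (Subgroup.subset_closure (uE_mem_locSet σ hinv p ha hb hab h c))
      (Subgroup.subset_closure (uE_mem_locSet σ hinv p hb ha hab.symm h' _)))
      (Subgroup.subset_closure (uE_mem_locSet σ hinv p ha hb hab h c))
  exact mul_mem (h1 _) (h1 _)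

theorem uW_mem {i₀ i : Fin n} (h0 : i₀.val = 0) (hi : i.rev ≠ i) (hne : i₀ ≠ i)
    (hne' : i₀ ≠ i.rev) {v : Fin n → F} (hv1 : v i = 0) (hv2 : v i.rev = 0) (hv0 : v i₀.rev = 0)
    {a : F} (ha : a ≠ 0) (h : a + σ a + uForm σ v v = 0) :
    uW σ i v a ∈ Subgroup.closure (locSet σ p 1) := by
  obtain ⟨c1, c2, c3⟩ := ucond_uW σ hinv hi hv1 hv2 ha h
  have key : ∀ (e w : Fin n → F) (b : F), UCond σ e w b → e i₀.rev = 0 → w i₀.rev = 0 →
      uY σ e w b ∈ Subgroup.closure (locSet σ p 1) := by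
    intro e w b hc he hw
    have hfix : ∀ (w' : Fin n → F) (b' : F), UCond σ e w' b' → w' i₀.rev = 0 →
        ∀ l : Fin n, l.val < 1 → InW 1 (uAct σ (uY σ e w' b') (eU l)) := by
      intro w' b' hc' hw' l hl
      obtain rfl : l = i₀ := Fin.ext (by omega)
      rw [uY_apply σ hinv hc']
      simp only [uForm_eU_left, he, hw', map_zero, mul_zero, sub_zero, zero_smul, add_zero]
      exact inW_eU hl
    exact Subgroup.subset_closure (uY_mem_locSet σ hinv p hc (hfix w b hc hw)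
      (hfix _ _ (uY_inv σ hinv hc).1 (by simp [hw])))
  have he1 : (eU i : Fin n → F) i₀.rev = 0 := by
    rw [eU_apply, if_neg]
    intro h'
    exact hne' (by rw [← h', Fin.rev_rev])
  have he2 : (eU i.rev : Fin n → F) i₀.rev = 0 := by
    rw [eU_apply, if_neg]
    exact fun h' => hne (Fin.rev_injective h')
  exact mul_mem (mul_mem (key _ _ _ c2 he1 (by simp [hv0])) (key _ _ _ c3 he2 (by simp [hv0])))
    (key _ _ _ c1 he1 hv0)

/-- A diagonal element supported on one hyperbolic pair lies in the local subgroup. -/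
theorem single_mem_locSet (hne : σ ≠ RingEquiv.refl F) (hn : 4 ≤ n) {i₀ i₁ : Fin n}
    (h0 : i₀.val = 0) (h1 : i₁.val = 1) {D : UG n σ} (hD : IsDiagU σ D)
    (h : ∀ j : Fin n, j < j.rev → j ≠ i₁ → D.1.1 j j = 1) :
    D ∈ Subgroup.closure (locSet σ p 1) := by
  classical
  have h1r : i₁ < i₁.rev := Fin.lt_def.2 (by rw [Fin.val_rev]; omega)
  have h0r : i₀ < i₀.rev := Fin.lt_def.2 (by rw [Fin.val_rev]; omega)
  have h01 : i₀ ≠ i₁ := fun h' => by rw [h', h1] at h0; exact one_ne_zero h0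
  have h01' : i₀ ≠ i₁.rev := fun h' => by
    have := congrArg Fin.val h'
    rw [Fin.val_rev] at this
    omega
  obtain ⟨x, hx⟩ : ∃ x, x = D.1.1 i₁ i₁ := ⟨_, rfl⟩
  have hx0 : x ≠ 0 := fun h' => by
    have := hD.mul_rev σ i₁
    rw [← hx, h', zero_mul] at this
    exact zero_ne_one this
  have hoth : ∀ j : Fin n, j.rev ≠ j → j ≠ i₁ → j ≠ i₁.rev → D.1.1 j j = 1 := by
    intro j hj hj1 hj2
    rcases lt_or_gt_of_ne hj with hlt | hlt
    · have h2 := hD.mul_rev σ j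
      rw [h j.rev (by rwa [Fin.rev_rev]) (fun h' => hj2 (by rw [← h', Fin.rev_rev])), map_one,
        mul_one] at h2
      exact h2
    · exact h j hlt hj1
  obtain ⟨v, v', a, b, hv, hv', ha, hb, ha', hb', hab⟩ : ∃ (v v' : Fin n → F) (a b : F),
      (∀ j : Fin n, j.rev ≠ j → v j = 0) ∧ (∀ j : Fin n, j.rev ≠ j → v' j = 0) ∧ a ≠ 0 ∧ b ≠ 0 ∧
        a + σ a + uForm σ v v = 0 ∧ b + σ b + uForm σ v' v' = 0 ∧ a * (σ b)⁻¹ = x := by
    by_cases hw : ∃ w : Fin n, w.rev = w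
    · obtain ⟨w, hw⟩ := hw
      have hN : ∀ a : F, ∃ c : F, a + σ a + uForm σ (c • eU w : Fin n → F) (c • eU w) = 0 := by
        intro a
        obtain ⟨c, hc⟩ := CfsgLib.Transvec.Unitary.exists_norm_eq hne hinv (b := -(a + σ a))
          (by rw [map_neg, map_add, hinv, add_comm])
        refine ⟨c, ?_⟩
        rw [uForm_smul_left, uForm_smul_right, uForm_eU_right, eU_apply, if_pos hw, mul_one, hc]
        ring
      have hvan : ∀ (c : F) (j : Fin n), j.rev ≠ j → (c • eU w : Fin n → F) j = 0 := by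
        intro c j hj
        have : j ≠ w := fun h' => hj (h' ▸ hw)
        simp [eU_apply, this]
      obtain ⟨c, hc⟩ := hN x
      obtain ⟨c', hc'⟩ := hN 1
      exact ⟨_, _, x, 1, hvan c, hvan c', hx0, one_ne_zero, hc, hc', by simp⟩
    · push Not at hw
      obtain ⟨s, hs0, hs⟩ := CfsgLib.Transvec.Unitary.exists_skew hne hinv
      have hprod := hD.prod_eq σ
      rw [Finset.prod_eq_mul i₁ i₁.rev h1r.ne (fun j _ hj => hoth j (hw j) hj.1 hj.2) (by simp)
        (by simp), ← hx] at hprod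
      have hfix : σ x = x := by
        have h2 := congrArg σ (hD.mul_rev σ i₁)
        rw [map_mul, hinv, map_one, ← hx] at h2
        have hr : D.1.1 i₁.rev i₁.rev ≠ 0 := fun h' => by
          rw [h', mul_zero] at hprod
          exact zero_ne_one hprod
        exact mul_right_cancel₀ hr (h2.trans hprod.symm)
      have hσs : σ s ≠ 0 := (map_ne_zero_iff _ σ.injective).2 hs0
      refine ⟨0, 0, x * σ s, s, fun _ _ => rfl, fun _ _ => rfl, mul_ne_zero hx0 hσs, hs0, ?_,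
        by simpa using hs, by rw [mul_assoc, mul_inv_cancel₀ hσs, mul_one]⟩
      simp only [map_mul, hfix, hinv, uForm_zero_left, add_zero]
      linear_combination x * hs
  have h1r' : i₁.rev.rev ≠ i₁.rev := by rw [Fin.rev_rev]; exact h1r.ne
  have h0r' : i₀.rev.rev ≠ i₀.rev := by rw [Fin.rev_rev]; exact h0r.ne
  suffices hDW : D = uW σ i₁ v a * uW σ i₁ v' b by
    rw [hDW]
    exact mul_mem (uW_mem σ hinv p h0 h1r.ne' h01 h01' (hv _ h1r.ne') (hv _ h1r') (hv _ h0r') ha ha')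
      (uW_mem σ hinv p h0 h1r.ne' h01 h01' (hv' _ h1r.ne') (hv' _ h1r') (hv' _ h0r') hb hb')
  refine eq_of_agree σ fun j hj => ?_
  rw [uAct_mul, hD.act]
  rcases eq_or_ne j i₁ with rfl | hj1
  · rw [uW_fst σ hinv hj (hv' _ hj) (hv' _ h1r') hb hb', uAct_smul,
      uW_snd σ hinv hj (hv _ hj) (hv _ h1r') ha ha', smul_smul, ← hx, ← hab, mul_comm]
  rcases eq_or_ne j i₁.rev with rfl | hj2
  · rw [uW_snd σ hinv h1r.ne' (hv' _ h1r.ne') (hv' _ hj) hb hb', uAct_smul,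
      uW_fst σ hinv h1r.ne' (hv _ h1r.ne') (hv _ hj) ha ha', smul_smul]
    congr 1
    have h2 := hD.mul_rev σ i₁
    rw [← hx] at h2
    have hσa : σ a ≠ 0 := (map_ne_zero_iff _ σ.injective).2 ha
    have h3 : σ (D.1.1 i₁.rev i₁.rev) = x⁻¹ := (inv_eq_of_mul_eq_one_right h2).symm
    apply σ.injective
    rw [h3, map_mul, map_inv₀, hinv, ← hab, mul_inv, inv_inv, mul_comm]
  · have hperp : ∀ u : Fin n → F, (∀ l : Fin n, l.rev ≠ l → u l = 0) → uForm σ (eU j) u = 0 := by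
      intro u hu
      rw [uForm_eU_left, hu _ (by rw [Fin.rev_rev]; exact hj.symm), map_zero]
    have he : ∀ u : Fin n → F, (∀ l : Fin n, l.rev ≠ l → u l = 0) → ∀ c : F, c ≠ 0 →
        c + σ c + uForm σ u u = 0 → uAct σ (uW σ i₁ u c) (eU j) = eU j := fun u hu c hc hc' =>
      uW_fix σ hinv h1r.ne' (hu _ h1r.ne') (hu _ h1r') hc hc' (by simp [eU_apply, Ne.symm hj1])
        (by simp [eU_apply, Ne.symm hj2]) (hperp u hu)
    rw [he v' hv' b hb hb', he v hv a ha ha', hoth j hj hj1 hj2, one_smul]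

end CfsgLib.Fusion.SUSimple
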