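import Cfsg.Agent.Lib.Fusion.PSUSimple.Closed
import Cfsg.Agent.Lib.Fusion.PSUSimple.Torus
import Cfsg.Agent.Lib.PronormalPSU.Even

/-!
# The fusion system of the projective special unitary group in the defining characteristic
-/

set_option autoImplicit false

open Matrix Cfsg Cfsg.FusionSystem CfsgLib.Fusion.UniTri

namespace CfsgLib.Fusion.SUSimple

variable {F : Type*} [Field F] [Finite F] {n : ℕ} (σ : F ≃+* F) (hinv : ∀ a, σ (σ a) = a)
  (hne : σ ≠ RingEquiv.refl F) {p : ℕ} [Fact p.Prime] [CharP F p]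

include hinv hne

theorem exists_sylow_uU : ∃ P : Sylow p (UG n σ), (P : Subgroup (UG n σ)) = uU n σ := by
  obtain ⟨P, hP⟩ := (isPGroup_uU σ (p := p) (n := n)).exists_le_sylow
  refine ⟨P, le_antisymm ?_ hP⟩
  by_contra hlt
  obtain ⟨g, hgN, hgU⟩ := SetLike.exists_of_lt (lt_normalizerIn P.2 (lt_of_le_not_ge hP hlt))
  have htri := triangular_of_normalizes σ hinv hne (g := g) fun u hu => by
    simpa using conj_mem_of_mem_normalizer ((Subgroup.normalizer _).inv_mem hgN.2) hu
  obtain ⟨D, u, hD, hu, rfl⟩ := exists_diag_mul σ hinv htri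
  have hDP : D ∈ (P : Subgroup (UG n σ)) := by
    have := (P : Subgroup (UG n σ)).mul_mem hgN.1 ((P : Subgroup (UG n σ)).inv_mem (hP hu))
    rwa [mul_inv_cancel_right] at this
  obtain ⟨k, hk⟩ := P.2 ⟨_, hDP⟩
  have hk' : D ^ p ^ k = 1 := congrArg Subtype.val hk
  have hpow : ∀ j : Fin n, ∀ m : ℕ, uAct σ (D ^ m) (eU j) = D.1.1 j j ^ m • eU j := by
    intro j m
    induction m with
    | zero => simp
    | succ m ih => rw [pow_succ, uAct_mul, hD.act, uAct_smul, ih, smul_smul, ← pow_succ']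
  have hD1 : D = 1 := eq_one_of_fix σ fun j _ => by
    have h1 := congrFun (hpow j (p ^ k)) j
    rw [hk', uAct_one, Pi.smul_apply, eU_apply, if_pos rfl, smul_eq_mul, mul_one] at h1
    have h2 : D.1.1 j j = 1 := by
      refine sub_eq_zero.1 (eq_zero_of_pow_eq_zero (n := p ^ k) ?_)
      rw [sub_pow_char_pow_of_commute (p := p) (n := k) (Commute.all _ _), ← h1, one_pow, sub_self]
    rw [hD.act, h2, one_smul]
  rw [hD1, one_mul] at hgU
  exact hgU hu

/-- The fusion system of the special unitary group in the defining characteristic is simple. -/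
theorem isSimple_ug (hn : 4 ≤ n) {S : Sylow p (UG n σ)}
    (hS : (S : Subgroup (UG n σ)) = uU n σ) :
    (groupFusionSystem (S : Subgroup (UG n σ))).IsSimple p := by
  classical
  obtain ⟨i₀, h0⟩ : ∃ i₀ : Fin n, i₀.val = 0 := ⟨⟨0, by omega⟩, rfl⟩
  obtain ⟨i₁, h1⟩ : ∃ i₁ : Fin n, i₁.val = 1 := ⟨⟨1, by omega⟩, rfl⟩
  have h0r : i₀ < i₀.rev := Fin.lt_def.2 (by rw [Fin.val_rev]; omega)
  have h1r : i₁ < i₁.rev := Fin.lt_def.2 (by rw [Fin.val_rev]; omega)
  have h01 : i₀ ≠ i₁ := fun h => by rw [h, h1] at h0; exact one_ne_zero h0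
  have hne1 : (S : Subgroup (UG n σ)) ≠ ⊥ := by
    intro hbot
    obtain ⟨s, hs0, hs⟩ := CfsgLib.Transvec.Unitary.exists_skew hne hinv
    have hc := ucond_center σ hinv h0r.ne' hs
    have h2 : uY σ (eU i₀) (0 : Fin n → F) s ∈ (S : Subgroup (UG n σ)) := hS.ge
      (uY_mem_uU σ hinv hc h0r (fun j hj => by simp [eU_apply, hj.ne']) fun _ _ => rfl)
    rw [hbot, Subgroup.mem_bot] at h2
    have h3 := congrArg (fun g : UG n σ => uAct σ g (eU i₀.rev) i₀) h2
    simp [uY_apply σ hinv hc, uForm_eU_right, eU_apply, h0r.ne, hs0] at h3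
  refine isSimple_groupFusion_of_normalizer S hne1
    (fun T hT => stronglyClosed_eq_uU σ hinv hne hn hS hT) fun g hg => ?_
  have htri := triangular_of_normalizes σ hinv hne (g := g) fun u hu => by
    rw [hS] at hg
    simpa using conj_mem_of_mem_normalizer ((Subgroup.normalizer _).inv_mem hg) hu
  obtain ⟨D, u, hD, hu, rfl⟩ := exists_diag_mul σ hinv htri
  refine Subgroup.mul_mem _ ?_ (Subgroup.subset_closure
    ⟨Subgroup.le_normalizer (hS.ge hu), Or.inl (hS.ge hu)⟩)
  set K := Subgroup.closure {g : UG n σ |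
      g ∈ Subgroup.normalizer ((S : Subgroup (UG n σ)) : Set (UG n σ)) ∧
        (g ∈ (S : Subgroup (UG n σ)) ∨ ∃ R : Subgroup (UG n σ), R ≤ (S : Subgroup (UG n σ)) ∧
          (S : Subgroup (UG n σ)) ≤ Subgroup.normalizer (R : Set (UG n σ)) ∧
          (groupFusionSystem (S : Subgroup (UG n σ))).IsCentric R ∧
          g ∈ Subgroup.closure {h : UG n σ |
            h ∈ Subgroup.normalizer (R : Set (UG n σ)) ∧ ∃ k : ℕ, orderOf h = p ^ k})} with hK
  have hgen : ∀ (k : ℕ), 1 ≤ k → 2 * k ≤ n → ∀ E : UG n σ, IsDiagU σ E →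
      E ∈ Subgroup.closure (locSet σ p k) → E ∈ K := by
    intro k hk1 hk2 E hE hEk
    rw [hK]
    refine Subgroup.subset_closure ⟨?_, Or.inr ⟨uRad n σ k, (uRad_le σ).trans hS.ge,
      hS.le.trans (uU_le_normalizer σ k), isCentric_uRad σ hinv hne p hk1 hk2 hS, hEk⟩⟩
    rw [hS]
    exact hE.mem_normalizer σ
  suffices H : ∀ (s : Finset (Fin n)) (E : UG n σ), IsDiagU σ E →
      (∀ j : Fin n, j < j.rev → j ∉ s → j ≠ i₁ → E.1.1 j j = 1) → E ∈ K from
    H Finset.univ D hD fun j _ hj => absurd (Finset.mem_univ j) hj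
  intro s
  induction s using Finset.induction with
  | empty =>
    intro E hE h
    exact hgen 1 le_rfl (by omega) E hE
      (single_mem_locSet σ hinv p hne hn h0 h1 hE fun j hj hj1 => h j hj (Finset.notMem_empty j) hj1)
  | insert i s _ ih =>
    intro E hE h
    by_cases hi : i < i.rev ∧ i ≠ i₁
    swap
    · exact ih E hE fun j hj hjs hj1 => h j hj (fun hm => by
        rcases Finset.mem_insert.1 hm with rfl | hm
        · exact hi ⟨hj, hj1⟩
        · exact hjs hm) hj1
    obtain ⟨hi, hi1⟩ := hi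
    have hi1' : i₁ ≠ i.rev := ne_rev_of_firstHalf hi h1r
    have hx : E.1.1 i i ≠ 0 := fun h' => by
      have h2 := hE.mul_rev σ i
      rw [h', zero_mul] at h2
      exact zero_ne_one h2
    obtain ⟨hP, hPi, hPo⟩ := uPair_spec σ hinv hi.ne' h1r.ne' (Ne.symm hi1) hi1' hx
    have hPK : uPair σ i i₁ (E.1.1 i i) ∈ K := by
      rcases eq_or_ne i i₀ with rfl | hi0
      · refine hgen 2 (by omega) (by omega) _ hP (uPair_mem σ hinv p hi.ne' h1r.ne' (Ne.symm hi1)
          (fun d l hl => ?_) (fun d l hl => ?_) _)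
        · rw [uE_apply σ hinv hi.ne' h1r.ne' (Ne.symm hi1)]
          intro j hj
          have hne2 : (eU l : Fin n → F) i₁.rev = 0 := inW_eU hl _ (by rw [Fin.val_rev]; omega)
          simp [hne2, inW_eU hl j hj, inW_eU (show i₁.val < 2 by omega) j hj]
        · rw [uE_apply σ hinv h1r.ne' hi.ne' hi1]
          intro j hj
          have hne2 : (eU l : Fin n → F) i.rev = 0 := inW_eU hl _ (by rw [Fin.val_rev]; omega)
          simp [hne2, inW_eU hl j hj, inW_eU (show i.val < 2 by omega) j hj]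
      · refine hgen 1 le_rfl (by omega) _ hP (uPair_mem σ hinv p hi.ne' h1r.ne' (Ne.symm hi1)
          (fun d l hl => ?_) (fun d l hl => ?_) _)
        · obtain rfl : l = i₀ := Fin.ext (by omega)
          rw [uE_fix σ hinv hi.ne' h1r.ne' (Ne.symm hi1) d (by simp [eU_apply, hi0])
            (by simp [eU_apply, (ne_rev_of_firstHalf h1r h0r).symm])]
          exact inW_eU hl
        · obtain rfl : l = i₀ := Fin.ext (by omega)
          rw [uE_fix σ hinv h1r.ne' hi.ne' hi1 d (by simp [eU_apply, h01.symm])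
            (by simp [eU_apply, (ne_rev_of_firstHalf hi h0r).symm])]
          exact inW_eU hl
    have hrest : uPair σ i i₁ (E.1.1 i i) * E ∈ K := by
      refine ih _ (hP.mul σ hE) fun j hj hjs hj1 => ?_
      rw [hP.mul_apply σ hE]
      rcases eq_or_ne j i with rfl | hji
      · rw [hPi, inv_mul_cancel₀ hx]
      · rw [hPo j hj.ne' hji hj1 (ne_rev_of_firstHalf hi hj) (ne_rev_of_firstHalf h1r hj),
          h j hj (fun hm => hjs ((Finset.mem_insert.1 hm).resolve_left hji)) hj1, one_mul]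
    have := K.mul_mem (K.inv_mem hPK) hrest
    rwa [inv_mul_cancel_left] at this

omit hne in
omit hinv [Finite F] in
theorem mem_UG_iff (g : Matrix.SpecialLinearGroup (Fin n) F) :
    g ∈ UG n σ ↔ CfsgLib.UnitarySpec.IsU σ (CfsgLib.PronormalPSU.antiJ F n) g.1 := by
  have hform : ∀ u v : Fin n → F,
      uForm σ u v = u ⬝ᵥ (CfsgLib.PronormalPSU.antiJ F n *ᵥ (σ ∘ v)) := by
    intro u v
    simp [uForm, dotProduct, Matrix.mulVec, CfsgLib.PronormalPSU.antiJ]
  constructor
  · intro h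
    show _ = _
    ext i j
    have h1 := h (Pi.single i 1) (Pi.single j 1)
    rw [hform, hform, CfsgLib.UnitarySpec.herm_exp] at h1
    have hs : σ ∘ (Pi.single j (1 : F) : Fin n → F) = Pi.single j 1 := by
      funext k
      rcases eq_or_ne k j with rfl | hk
      · simp
      · simp [hk]
    rw [hs] at h1
    simpa using h1
  · intro h u v
    rw [hform, hform, CfsgLib.UnitarySpec.herm_exp, h]

omit hne

end CfsgLib.Fusion.SUSimple
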