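import Cfsg.Agent.Lib.Fusion.PSUSimple.Structure
import Cfsg.Agent.Lib.Fusion.CentralQuotientSimple

/-!
# Unipotent radicals of maximal parabolic subgroups of the unitary group
-/

set_option autoImplicit false

open Matrix Cfsg CfsgLib.Fusion.UniTri

namespace CfsgLib.Fusion.SUSimple

variable {F : Type*} [Field F] [Finite F] {n : ℕ} (σ : F ≃+* F) (hinv : ∀ a, σ (σ a) = a)

/-- Vectors in the span of the first `k` basis vectors. -/
def InW (k : ℕ) (x : Fin n → F) : Prop := ∀ j : Fin n, k ≤ j.val → x j = 0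

omit [Finite F] in
theorem inW_eU {k : ℕ} {i : Fin n} (hi : i.val < k) : InW k (eU i : Fin n → F) := fun j hj => by
  rw [eU_apply, if_neg]
  rintro rfl
  omega

omit [Finite F] in
theorem eq_sum_eU (x : Fin n → F) : x = ∑ i, x i • eU i := by
  funext j
  simp [Finset.sum_apply, eU_apply]

omit [Finite F] in
theorem uAct_sum {ι : Type*} (g : UG n σ) (s : Finset ι) (f : ι → Fin n → F) :
    uAct σ g (∑ i ∈ s, f i) = ∑ i ∈ s, uAct σ g (f i) := by
  simp [uAct, Matrix.mulVec_sum]

omit [Finite F] in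
theorem inW_map {g : UG n σ} {k : ℕ} (h : ∀ i : Fin n, i.val < k → InW k (uAct σ g (eU i)))
    {x : Fin n → F} (hx : InW k x) : InW k (uAct σ g x) := by
  intro j hj
  conv_lhs => rw [eq_sum_eU x, uAct_sum]
  rw [Finset.sum_apply]
  refine Finset.sum_eq_zero fun i _ => ?_
  rw [uAct_smul, Pi.smul_apply, smul_eq_mul]
  rcases lt_or_ge i.val k with hi | hi
  · rw [h i hi j hj, mul_zero]
  · rw [hx i hi, zero_mul]

omit [Finite F] in
theorem fix_inW {g : UG n σ} {k : ℕ} (h : ∀ i : Fin n, i.val < k → uAct σ g (eU i) = eU i)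
    {x : Fin n → F} (hx : InW k x) : uAct σ g x = x := by
  conv_lhs => rw [eq_sum_eU x, uAct_sum]
  conv_rhs => rw [eq_sum_eU x]
  refine Finset.sum_congr rfl fun i _ => ?_
  rw [uAct_smul]
  rcases lt_or_ge i.val k with hi | hi
  · rw [h i hi]
  · rw [hx i hi, zero_smul, zero_smul]

variable (n) in
/-- The radical of the stabilizer of the span of the first `k` basis vectors. -/
def uRad (k : ℕ) : Subgroup (UG n σ) where
  carrier := {g | (∀ i : Fin n, i.val < k → uAct σ g (eU i) = eU i) ∧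
    ∀ v, (∀ i : Fin n, i.val < k → v i.rev = 0) → InW k (uAct σ g v - v)}
  one_mem' := ⟨fun i _ => uAct_one σ _, fun v _ j _ => by simp⟩
  mul_mem' := by
    rintro g h ⟨hg, hg'⟩ ⟨hh, hh'⟩
    refine ⟨fun i hi => by rw [uAct_mul, hh i hi, hg i hi], fun v hv j hj => ?_⟩
    have h1 := fix_inW σ hg (hh' v hv)
    rw [uAct_sub] at h1
    have h2 := hh' v hv j hj
    have h3 := hg' v hv j hj
    have h4 := congrFun h1 j
    simp only [Pi.sub_apply] at h2 h3 h4 ⊢
    rw [uAct_mul]
    linear_combination h4 + h2 + h3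
  inv_mem' := by
    rintro g ⟨hg, hg'⟩
    have hfix : ∀ i : Fin n, i.val < k → uAct σ g⁻¹ (eU i) = eU i := fun i hi => by
      conv_lhs => rw [← hg i hi, uAct_inv_cancel]
    refine ⟨hfix, fun v hv j hj => ?_⟩
    have h1 := fix_inW σ hfix (hg' v hv)
    rw [uAct_sub, uAct_inv_cancel] at h1
    have h2 := hg' v hv j hj
    have h3 := congrFun h1 j
    simp only [Pi.sub_apply] at h2 h3 ⊢
    linear_combination -h2 - h3

theorem mem_normalizer_uRad {g : UG n σ} {k : ℕ}
    (h : ∀ i : Fin n, i.val < k → InW k (uAct σ g (eU i)))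
    (h' : ∀ i : Fin n, i.val < k → InW k (uAct σ g⁻¹ (eU i))) :
    g ∈ Subgroup.normalizer (uRad n σ k : Set (UG n σ)) := by
  refine mem_normalizer_of_forall ?_
  rintro y ⟨hy, hy'⟩
  refine ⟨fun i hi => by rw [uAct_mul, uAct_mul, fix_inW σ hy (h' i hi), uAct_cancel_inv],
    fun v hv => ?_⟩
  have hperp : ∀ i : Fin n, i.val < k → uAct σ g⁻¹ v i.rev = 0 := by
    intro i hi
    rw [← uForm_eU_right σ (uAct σ g⁻¹ v) i, ← uAct_form σ g, uAct_cancel_inv, uForm]
    refine Finset.sum_eq_zero fun l _ => ?_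
    rcases lt_or_ge l.rev.val k with hl | hl
    · have := hv l.rev hl
      rw [Fin.rev_rev] at this
      rw [this, zero_mul]
    · rw [h i hi l.rev hl, map_zero, mul_zero]
  have h2 := inW_map σ h (hy' _ hperp)
  rw [uAct_sub, uAct_cancel_inv] at h2
  rwa [uAct_mul, uAct_mul]

theorem uU_fix {u : UG n σ} (hu : u ∈ uU n σ) {k : ℕ} :
    ∀ i : Fin n, i.val < k → InW k (uAct σ u (eU i)) := by
  intro i hi j hj
  rw [uAct_eU]
  exact ((mem_uU_iff σ).1 hu).1 j i (Fin.lt_def.2 (by omega))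

theorem uU_le_normalizer (k : ℕ) :
    uU n σ ≤ Subgroup.normalizer (uRad n σ k : Set (UG n σ)) := fun _ hu =>
  mem_normalizer_uRad σ (uU_fix σ hu) (uU_fix σ ((uU n σ).inv_mem hu))

theorem uRad_le {k : ℕ} : uRad n σ k ≤ uU n σ := by
  rintro g ⟨hg, hg'⟩
  have key : ∀ x j : Fin n, j ≤ x → g.1.1 x j = if x = j then 1 else 0 := by
    intro x j hjx
    rw [← uAct_eU σ]
    rcases lt_or_ge x.rev.val k with hx | hx
    · have h1 := uAct_form σ g (eU j) (eU x.rev)
      rw [hg x.rev hx, uForm_eU_right, uForm_eU_right, Fin.rev_rev, eU_apply] at h1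
      exact h1
    · rcases lt_or_ge j.val k with hj | hj
      · rw [hg j hj, eU_apply]
      · have hperp : ∀ i : Fin n, i.val < k → (eU j : Fin n → F) i.rev = 0 := fun i hi => by
          rw [eU_apply, if_neg]
          intro h1
          have h2 := congrArg Fin.val h1
          rw [Fin.val_rev] at h2 hx
          have := Fin.le_def.1 hjx
          omega
        have h1 := hg' _ hperp x (hj.trans (Fin.le_def.1 hjx))
        rw [Pi.sub_apply, sub_eq_zero] at h1
        rw [h1, eU_apply]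
  refine (mem_uU_iff σ).2 ⟨fun x y hxy => ?_, fun x => ?_⟩
  · rw [key x y hxy.le, if_neg hxy.ne']
  · rw [key x x le_rfl, if_pos rfl]

include hinv

theorem uY_mem_uRad {e v : Fin n → F} {a : F} (h : UCond σ e v a) {k : ℕ} (h2k : 2 * k ≤ n)
    (he : InW k e) (hv : ∀ i : Fin n, i.val < k → v i.rev = 0) :
    uY σ e v a ∈ uRad n σ k := by
  refine ⟨fun i hi => ?_, fun x hx j hj => ?_⟩
  · have h1 : uForm σ (eU i) e = 0 := by
      rw [uForm_eU_left, he _ (by rw [Fin.val_rev]; omega), map_zero]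
    have h2 : uForm σ (eU i) v = 0 := by rw [uForm_eU_left, hv i hi, map_zero]
    rw [uY_apply σ hinv h, h1, h2]
    simp
  · have h1 : uForm σ x e = 0 := by
      refine Finset.sum_eq_zero fun l _ => ?_
      rcases lt_or_ge l.rev.val k with hl | hl
      · have := hx l.rev hl
        rw [Fin.rev_rev] at this
        rw [this, zero_mul]
      · rw [he l.rev hl, map_zero, mul_zero]
    rw [uY_apply σ hinv h, h1]
    simp [he j hj]

theorem isCentric_uRad (hne : σ ≠ RingEquiv.refl F) (p : ℕ) [Fact p.Prime] [CharP F p] {k : ℕ}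
    (hk1 : 1 ≤ k) (h2k : 2 * k ≤ n) {S : Subgroup (UG n σ)} (hS : S = uU n σ) :
    (Cfsg.groupFusionSystem S).IsCentric (uRad n σ k) := by
  subst hS
  refine isCentric_of_pElement_commute (isPGroup_uU σ (p := p)) (uRad_le σ) fun y hy hcomm => ?_
  obtain ⟨s, hs0, hs⟩ := CfsgLib.Transvec.Unitary.exists_skew hne hinv
  have hfix : ∀ i : Fin n, i.val < k → uAct σ y (eU i) = eU i := by
    intro i hi
    have hii : i.rev ≠ i := fun h => by
      have := congrArg Fin.val h
      rw [Fin.val_rev] at this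
      omega
    have hc : UCond σ (eU i) (0 : Fin n → F) s := by
      refine ⟨?_, by simp, by simpa using hs⟩
      simp [uForm_eU_right, eU_apply, hii]
    have h1 := congrArg (fun g => uAct σ g (eU i.rev))
      (hcomm _ (uY_mem_uRad σ hinv hc h2k (inW_eU hi) fun _ _ => rfl))
    simp only [uAct_mul, uY_apply σ hinv hc, uForm_zero_right, smul_zero, add_zero, sub_zero,
      uAct_add, uAct_smul] at h1
    rw [show uForm σ (eU i.rev : Fin n → F) (eU i) = 1 by simp [uForm_eU_right, eU_apply], mul_one] at h1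
    set c := s⁻¹ * (s * uForm σ (uAct σ y (eU i.rev)) (eU i)) with hcdef
    have h2 : uAct σ y (eU i) = c • eU i := by
      rw [hcdef, mul_smul, ← add_left_cancel h1, inv_smul_smul₀ hs0]
    have hpow : ∀ m : ℕ, uAct σ (y ^ m) (eU i) = c ^ m • eU i := by
      intro m
      induction m with
      | zero => simp
      | succ m ih => rw [pow_succ, uAct_mul, h2, uAct_smul, ih, smul_smul, ← pow_succ']
    obtain ⟨m, hm⟩ := hy
    have h3 := congrFun (hpow (p ^ m)) i
    rw [hm, uAct_one, Pi.smul_apply, eU_apply, if_pos rfl, smul_eq_mul, mul_one] at h3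
    have hc1 : c = 1 := by
      refine sub_eq_zero.1 (eq_zero_of_pow_eq_zero (n := p ^ m) ?_)
      rw [sub_pow_char_pow_of_commute (p := p) (n := m) (Commute.all _ _), ← h3, one_pow, sub_self]
    rw [h2, hc1, one_smul]
  refine ⟨hfix, fun v hv j hj => ?_⟩
  let i₀ : Fin n := ⟨0, by omega⟩
  have hi₀ : i₀.val < k := hk1
  have hii : i₀.rev ≠ i₀ := fun h => by
    have := congrArg Fin.val h
    rw [Fin.val_rev] at this
    simp [i₀] at this
    omega
  obtain ⟨a, ha⟩ := CfsgLib.Transvec.Unitary.exists_trace_eq hne hinv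
    (show σ (-uForm σ v v) = -uForm σ v v by rw [map_neg, ← uForm_swap σ hinv])
  have hc : UCond σ (eU i₀) v a := by
    refine ⟨?_, ?_, by linear_combination ha⟩
    · simp [uForm_eU_right, eU_apply, hii]
    · rw [uForm_eU_right, hv i₀ hi₀]
  have h1 : uY σ (eU i₀) (uAct σ y v) a = uY σ (eU i₀) v a := by
    have h2 := hcomm _ (uY_mem_uRad σ hinv hc h2k (inW_eU hi₀) hv)
    calc uY σ (eU i₀) (uAct σ y v) a = uY σ (uAct σ y (eU i₀)) (uAct σ y v) a := by rw [hfix i₀ hi₀]
      _ = y * uY σ (eU i₀) v a * y⁻¹ := (conj_uY σ hinv hc y).symm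
      _ = _ := by rw [h2, mul_inv_cancel_right]
  have hc' : UCond σ (eU i₀) (uAct σ y v) a := by
    have := hc.act σ y
    rwa [hfix i₀ hi₀] at this
  have h3 := congrArg (fun g => uAct σ g (eU i₀.rev) j) h1
  simp only [uY_apply σ hinv hc, uY_apply σ hinv hc', Pi.add_apply, Pi.smul_apply, smul_eq_mul,
    inW_eU hi₀ j hj, mul_zero, add_zero] at h3
  rw [show uForm σ (eU i₀.rev : Fin n → F) (eU i₀) = 1 by simp [uForm_eU_right, eU_apply], one_mul,
    one_mul, add_right_inj] at h3
  rw [Pi.sub_apply, h3, sub_self]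

end CfsgLib.Fusion.SUSimple
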