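import Cfsg.Agent.Lib.Fusion.PSUSimple.Basic

/-!
# Root elements and monomial elements of the unitary group
-/

set_option autoImplicit false

open Matrix CfsgLib.Fusion.UniTri

namespace CfsgLib.Fusion.SUSimple

variable {F : Type*} [Field F] [Finite F] {n : ℕ} (σ : F ≃+* F) (hinv : ∀ a, σ (σ a) = a)

omit [Finite F] in
theorem rev_ne_of_ne {a b : Fin n} (h : a ≠ b) : a.rev ≠ b.rev := fun h' => h (Fin.rev_injective h')

omit [Finite F] in
theorem ucond_root {a b : Fin n} (ha : a.rev ≠ a) (hb : b.rev ≠ b) (hab : b ≠ a) (c : F) :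
    UCond σ (eU a.rev) (c • eU b) 0 := by
  refine ⟨?_, ?_, ?_⟩
  · simp [uForm_eU_right, eU_apply, ha.symm]
  · simp [uForm_smul_left, uForm_eU_right, eU_apply, hab.symm]
  · simp [uForm_smul_left, uForm_smul_right, uForm_eU_right, eU_apply, hb]

/-- The elementary root element sending `eU a` to `eU a + c • eU b`. -/
noncomputable def uE (a b : Fin n) (c : F) : UG n σ := uY σ (eU a.rev) (c • eU b) 0

include hinv

theorem uE_apply {a b : Fin n} (ha : a.rev ≠ a) (hb : b.rev ≠ b) (hab : b ≠ a) (c : F)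
    (x : Fin n → F) : uAct σ (uE σ a b c) x = x + (x a * c) • eU b - (σ c * x b.rev) • eU a.rev := by
  rw [uE, uY_apply σ hinv (ucond_root σ ha hb hab c)]
  simp only [uForm_eU_right, uForm_smul_right, Fin.rev_rev, zero_mul, zero_sub, smul_smul, neg_smul]
  exact (sub_eq_add_neg _ _).symm

theorem uE_fix {a b : Fin n} (ha : a.rev ≠ a) (hb : b.rev ≠ b) (hab : b ≠ a) (c : F)
    {x : Fin n → F} (h1 : x a = 0) (h2 : x b.rev = 0) : uAct σ (uE σ a b c) x = x := by
  rw [uE_apply σ hinv ha hb hab, h1, h2]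
  simp

theorem uE_move {a b : Fin n} (ha : a.rev ≠ a) (hb : b.rev ≠ b) (hab : b ≠ a) (hab' : b ≠ a.rev)
    (c : F) : uAct σ (uE σ a b c) (eU a) = eU a + c • eU b := by
  rw [uE_apply σ hinv ha hb hab]
  have : b.rev ≠ a := fun h => hab' (by rw [← h, Fin.rev_rev])
  simp [eU_apply, this]

/-- The monomial element of a pair of indices. -/
noncomputable def uM (a b : Fin n) (c : F) : UG n σ :=
  uE σ a b c * uE σ b a (-c⁻¹) * uE σ a b c

theorem uM_fst {a b : Fin n} (ha : a.rev ≠ a) (hb : b.rev ≠ b) (hab : b ≠ a) (hab' : b ≠ a.rev)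
    {c : F} (hc : c ≠ 0) : uAct σ (uM σ a b c) (eU a) = c • eU b := by
  have hba' : a ≠ b.rev := fun h => hab' (by rw [h, Fin.rev_rev])
  rw [uM, uAct_mul, uAct_mul, uE_move σ hinv ha hb hab hab', uAct_add, uAct_smul,
    uE_move σ hinv hb ha hab.symm hba', uE_fix σ hinv hb ha hab.symm, smul_add, smul_smul,
    mul_neg, mul_inv_cancel₀ hc, neg_one_smul, add_comm (c • eU b), add_neg_cancel_left, uAct_smul,
    uE_fix σ hinv ha hb hab]
  · simp [eU_apply, hab.symm]
  · simp [eU_apply, hb]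
  · simp [eU_apply, hab]
  · simp [eU_apply, ha]

theorem uM_snd {a b : Fin n} (ha : a.rev ≠ a) (hb : b.rev ≠ b) (hab : b ≠ a) (hab' : b ≠ a.rev)
    {c : F} (hc : c ≠ 0) : uAct σ (uM σ a b c) (eU b) = (-c⁻¹) • eU a := by
  have hba' : a ≠ b.rev := fun h => hab' (by rw [h, Fin.rev_rev])
  have hfix : ∀ d : F, uAct σ (uE σ a b d) (eU b) = eU b := fun d =>
    uE_fix σ hinv ha hb hab d (by simp [eU_apply, hab.symm]) (by simp [eU_apply, hb])
  rw [uM, uAct_mul, uAct_mul, hfix, uE_move σ hinv hb ha hab.symm hba',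
    uAct_add, uAct_smul, uE_move σ hinv ha hb hab hab', hfix, smul_add, smul_smul,
    neg_mul, inv_mul_cancel₀ hc, neg_one_smul]
  abel

theorem uM_fix {a b : Fin n} (ha : a.rev ≠ a) (hb : b.rev ≠ b) (hab : b ≠ a) (c : F)
    {x : Fin n → F} (h1 : x a = 0) (h2 : x b.rev = 0) (h3 : x b = 0) (h4 : x a.rev = 0) :
    uAct σ (uM σ a b c) x = x := by
  rw [uM, uAct_mul, uAct_mul, uE_fix σ hinv ha hb hab c h1 h2,
    uE_fix σ hinv hb ha hab.symm _ h3 h4, uE_fix σ hinv ha hb hab c h1 h2]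

omit hinv

/-- The monomial element of a hyperbolic pair. -/
noncomputable def uW (i : Fin n) (v : Fin n → F) (a : F) : UG n σ :=
  uY σ (eU i) ((σ a / a) • v) a * uY σ (eU i.rev) ((-a⁻¹) • v) (σ a)⁻¹ * uY σ (eU i) v a

include hinv

omit [Finite F] in
theorem ucond_uW {i : Fin n} (hi : i.rev ≠ i) {v : Fin n → F} (hv1 : v i = 0) (hv2 : v i.rev = 0)
    {a : F} (ha : a ≠ 0) (h : a + σ a + uForm σ v v = 0) :
    UCond σ (eU i) v a ∧ UCond σ (eU i) ((σ a / a) • v) a ∧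
      UCond σ (eU i.rev) ((-a⁻¹) • v) (σ a)⁻¹ := by
  have hσ : σ a ≠ 0 := (map_ne_zero_iff _ σ.injective).2 ha
  refine ⟨⟨?_, ?_, h⟩, ⟨?_, ?_, ?_⟩, ?_, ?_, ?_⟩
  · simp [uForm_eU_right, eU_apply, hi]
  · simp [uForm_eU_right, hv2]
  · simp [uForm_eU_right, eU_apply, hi]
  · simp [uForm_eU_right, uForm_smul_left, hv2]
  · rw [uForm_smul_left, uForm_smul_right, map_div₀, hinv]
    field_simp
    linear_combination h
  · simp [uForm_eU_right, eU_apply, hi.symm]
  · simp [uForm_eU_right, uForm_smul_left, hv1]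
  · rw [uForm_smul_left, uForm_smul_right, map_inv₀, hinv, map_neg, map_inv₀]
    field_simp
    linear_combination h

theorem uW_snd {i : Fin n} (hi : i.rev ≠ i) {v : Fin n → F} (hv1 : v i = 0) (hv2 : v i.rev = 0)
    {a : F} (ha : a ≠ 0) (h : a + σ a + uForm σ v v = 0) :
    uAct σ (uW σ i v a) (eU i.rev) = a • eU i := by
  obtain ⟨c1, c2, c3⟩ := ucond_uW σ hinv hi hv1 hv2 ha h
  have hσ : σ a ≠ 0 := (map_ne_zero_iff _ σ.injective).2 ha
  have s1 : uAct σ (uY σ (eU i) v a) (eU i.rev) = eU i.rev + v + a • eU i := by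
    rw [uY_apply σ hinv c1]
    simp [uForm_eU_left, eU_apply, hv1]
  have s2 : uAct σ (uY σ (eU i.rev) ((-a⁻¹) • v) (σ a)⁻¹) (eU i.rev + v + a • eU i) = a • eU i := by
    rw [uY_apply σ hinv c3]
    have e1 : uForm σ (eU i.rev + v + a • eU i) (eU i.rev) = a := by
      simp [uForm_eU_right, eU_apply, hv1, hi.symm]
    have e2 : uForm σ (eU i.rev + v + a • eU i) v = uForm σ v v := by
      simp [uForm_add_left, uForm_neg_left, uForm_smul_left, uForm_eU_left, hv1, hv2]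
    rw [uForm_smul_right, e1, e2, map_neg, map_inv₀, smul_smul,
      show a * -a⁻¹ = -1 by field_simp,
      show (σ a)⁻¹ * a - -(σ a)⁻¹ * uForm σ v v = -1 by
        field_simp
        linear_combination h]
    module
  rw [uW, uAct_mul, uAct_mul, s1, s2, uY_apply σ hinv c2]
  simp [uForm_eU_left, uForm_smul_left, uForm_smul_right, eU_apply, hi, hi.symm, hv2]

theorem uW_fst {i : Fin n} (hi : i.rev ≠ i) {v : Fin n → F} (hv1 : v i = 0) (hv2 : v i.rev = 0)
    {a : F} (ha : a ≠ 0) (h : a + σ a + uForm σ v v = 0) :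
    uAct σ (uW σ i v a) (eU i) = (σ a)⁻¹ • eU i.rev := by
  obtain ⟨c1, c2, c3⟩ := ucond_uW σ hinv hi hv1 hv2 ha h
  have hσ : σ a ≠ 0 := (map_ne_zero_iff _ σ.injective).2 ha
  have s1 : uAct σ (uY σ (eU i) v a) (eU i) = eU i := by
    rw [uY_apply σ hinv c1]
    simp [uForm_eU_left, eU_apply, hi, hi.symm, hv2]
  have s2 : uAct σ (uY σ (eU i.rev) ((-a⁻¹) • v) (σ a)⁻¹) (eU i) =
      eU i + (-a⁻¹) • v + (σ a)⁻¹ • eU i.rev := by
    rw [uY_apply σ hinv c3]
    simp [uForm_eU_left, uForm_smul_right, eU_apply, hv2]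
  have s3 : uAct σ (uY σ (eU i) ((σ a / a) • v) a) (eU i + (-a⁻¹) • v + (σ a)⁻¹ • eU i.rev) =
      (σ a)⁻¹ • eU i.rev := by
    rw [uY_apply σ hinv c2]
    have e1 : uForm σ (eU i + (-a⁻¹) • v + (σ a)⁻¹ • eU i.rev) (eU i) = (σ a)⁻¹ := by
      simp [uForm_eU_right, eU_apply, hv2, hi]
    have e2 : uForm σ (eU i + (-a⁻¹) • v + (σ a)⁻¹ • eU i.rev) v = -a⁻¹ * uForm σ v v := by
      simp [uForm_add_left, uForm_neg_left, uForm_smul_left, uForm_eU_left, hv1, hv2]
    rw [uForm_smul_right, e1, e2, map_div₀, hinv, smul_smul,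
      show (σ a)⁻¹ * (σ a / a) = a⁻¹ by field_simp,
      show a * (σ a)⁻¹ - a / σ a * (-a⁻¹ * uForm σ v v) = -1 by
        field_simp
        linear_combination h]
    module
  rw [uW, uAct_mul, uAct_mul, s1, s2, s3]

theorem uW_fix {i : Fin n} (hi : i.rev ≠ i) {v : Fin n → F} (hv1 : v i = 0) (hv2 : v i.rev = 0)
    {a : F} (ha : a ≠ 0) (h : a + σ a + uForm σ v v = 0) {x : Fin n → F} (h1 : x i = 0)
    (h2 : x i.rev = 0) (h3 : uForm σ x v = 0) : uAct σ (uW σ i v a) x = x := by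
  obtain ⟨c1, c2, c3⟩ := ucond_uW σ hinv hi hv1 hv2 ha h
  rw [uW, uAct_mul, uAct_mul, uY_apply σ hinv c1]
  simp only [uForm_eU_right, h2, h3, zero_smul, add_zero, mul_zero, sub_zero]
  rw [uY_apply σ hinv c3]
  simp only [uForm_eU_right, uForm_smul_right, Fin.rev_rev, h1, h3, zero_smul, add_zero, mul_zero,
    sub_zero]
  rw [uY_apply σ hinv c2]
  simp [uForm_eU_right, uForm_smul_right, h2, h3]

omit hinv

variable (n) in
/-- The standard maximal unipotent subgroup. -/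
def uU : Subgroup (UG n σ) := (upper F n).comap (UG n σ).subtype

theorem mem_uU_iff {g : UG n σ} : g ∈ uU n σ ↔ IsUni g.1.1 := Iff.rfl

theorem isPGroup_uU {p : ℕ} [Fact p.Prime] [CharP F p] : IsPGroup p (uU n σ) := fun g =>
  ⟨n, Subtype.ext (Subtype.ext (Subtype.ext (by
    rw [SubgroupClass.coe_pow, SubgroupClass.coe_pow, Matrix.SpecialLinearGroup.coe_pow]
    exact IsUni.pow_char (mem_uU_iff σ |>.1 g.2))))⟩

include hinv

theorem uY_mem_uU {e v : Fin n → F} {a : F} (h : UCond σ e v a) {k : Fin n} (hk : k < k.rev)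
    (he : ∀ j, k < j → e j = 0) (hv : ∀ j, k.rev ≤ j → v j = 0) : uY σ e v a ∈ uU n σ := by
  have hcol : ∀ x j, j ≤ x →
      (uAct σ (uY σ e v a) (eU j) - eU j : Fin n → F) x = 0 := by
    intro x j hjx
    have h1 : uForm σ (eU j) e * v x = 0 := by
      by_cases hj : k.rev ≤ j
      · rw [hv x (hj.trans hjx), mul_zero]
      · rw [uForm_eU_left, he, map_zero, zero_mul]
        rwa [← Fin.rev_lt_rev, Fin.rev_rev, ← not_le]
    have h2 : uForm σ (eU j) e * e x = 0 := by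
      by_cases hj : k.rev ≤ j
      · rw [he x (lt_of_lt_of_le hk (hj.trans hjx)), mul_zero]
      · rw [uForm_eU_left, he, map_zero, zero_mul]
        rwa [← Fin.rev_lt_rev, Fin.rev_rev, ← not_le]
    have h3 : uForm σ (eU j) v * e x = 0 := by
      by_cases hj : j ≤ k
      · rw [uForm_eU_left, hv _ (Fin.rev_le_rev.2 hj), map_zero, zero_mul]
      · rw [he x (lt_of_lt_of_le (not_le.1 hj) hjx), mul_zero]
    rw [uY_apply σ hinv h]
    simp only [Pi.sub_apply, Pi.add_apply, Pi.smul_apply, smul_eq_mul]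
    linear_combination h1 + a * h2 - h3
  refine (mem_uU_iff σ).2 ⟨fun x y hxy => ?_, fun x => ?_⟩
  · have h1 := hcol x y hxy.le
    rwa [Pi.sub_apply, uAct_eU, eU_apply, if_neg hxy.ne', sub_zero] at h1
  · have h1 := hcol x x le_rfl
    rwa [Pi.sub_apply, uAct_eU, eU_apply, if_pos rfl, sub_eq_zero] at h1

end CfsgLib.Fusion.SUSimple
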