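import Cfsg.Agent.Lib.Fusion.PSUSimple.Roots

/-!
# The Borel subgroup of the unitary group
-/

set_option autoImplicit false

open Matrix CfsgLib.Fusion.UniTri

namespace CfsgLib.Fusion.SUSimple

variable {F : Type*} [Field F] [Finite F] {n : ℕ} (σ : F ≃+* F) (hinv : ∀ a, σ (σ a) = a)

omit [Finite F] in
theorem mid_unique {x y : Fin n} (hx : x.rev = x) (hy : y.rev = y) : x = y := by
  have h1 := congrArg Fin.val hx
  have h2 := congrArg Fin.val hy
  rw [Fin.val_rev] at h1 h2
  exact Fin.ext (by omega)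

/-- A diagonal element. -/
def IsDiagU (g : UG n σ) : Prop := ∀ x y, x ≠ y → g.1.1 x y = 0

omit [Finite F] in
theorem IsDiagU.act {g : UG n σ} (h : IsDiagU σ g) (j : Fin n) :
    uAct σ g (eU j) = g.1.1 j j • eU j := by
  funext x
  rw [uAct_eU, Pi.smul_apply, eU_apply]
  rcases eq_or_ne x j with rfl | hx
  · simp
  · simp [hx, h x j hx]

omit [Finite F] in
theorem IsDiagU.prod_eq {g : UG n σ} (h : IsDiagU σ g) : ∏ x, g.1.1 x x = 1 := by
  have h1 : g.1.1 = diagonal fun x => g.1.1 x x := by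
    ext x y
    rcases eq_or_ne x y with rfl | hxy
    · rw [diagonal_apply_eq]
    · rw [diagonal_apply_ne _ hxy, h x y hxy]
  have h2 := g.1.2
  rw [h1, det_diagonal] at h2
  exact h2

omit [Finite F] in
theorem IsDiagU.mul_rev {g : UG n σ} (h : IsDiagU σ g) (j : Fin n) :
    g.1.1 j j * σ (g.1.1 j.rev j.rev) = 1 := by
  have h1 := uAct_form σ g (eU j) (eU j.rev)
  rw [h.act, h.act, uForm_smul_left, uForm_smul_right, uForm_eU_right, Fin.rev_rev] at h1
  simpa [eU_apply] using h1

omit [Finite F] in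
theorem isDiagU_one : IsDiagU σ (1 : UG n σ) := fun x y h => by simp [h]

omit [Finite F] in
theorem IsDiagU.mul {g g' : UG n σ} (h : IsDiagU σ g) (h' : IsDiagU σ g') : IsDiagU σ (g * g') := by
  intro x y hxy
  rw [← uAct_eU σ, uAct_mul, h'.act, uAct_smul, h.act]
  simp [eU_apply, hxy]

omit [Finite F] in
theorem IsDiagU.mul_apply {g g' : UG n σ} (h : IsDiagU σ g) (h' : IsDiagU σ g') (j : Fin n) :
    (g * g').1.1 j j = g.1.1 j j * g'.1.1 j j := by
  rw [← uAct_eU σ, uAct_mul, h'.act, uAct_smul, h.act]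
  simp [eU_apply, mul_comm]

omit [Finite F] in
theorem isDiagU_of_scale {g : UG n σ}
    (h : ∀ j : Fin n, j.rev ≠ j → ∃ c : F, uAct σ g (eU j) = c • eU j) : IsDiagU σ g := by
  intro x y hxy
  by_cases hy : y.rev = y
  · have hx : x.rev ≠ x := fun h' => hxy (mid_unique h' hy)
    have hx' : x.rev.rev ≠ x.rev := by rw [Fin.rev_rev]; exact hx.symm
    obtain ⟨c, hc⟩ := h x.rev hx'
    have hc0 : c ≠ 0 := fun h0 => by
      rw [h0, zero_smul] at hc
      have h2 := congrArg (uAct σ g⁻¹) hc
      rw [uAct_inv_cancel, uAct_zero] at h2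
      simpa [eU_apply] using congrFun h2 x.rev
    have h1 := uAct_form σ g (eU y) (eU x.rev)
    rw [hc, uForm_smul_right, uForm_eU_right, uForm_eU_right, Fin.rev_rev, uAct_eU, eU_apply,
      if_neg hxy] at h1
    exact (mul_eq_zero.1 h1).resolve_left ((map_ne_zero_iff _ σ.injective).2 hc0)
  · obtain ⟨c, hc⟩ := h y hy
    rw [← uAct_eU σ, hc]
    simp [eU_apply, hxy]

omit [Finite F] in
theorem eq_one_of_fix {g : UG n σ} (h : ∀ j : Fin n, j.rev ≠ j → uAct σ g (eU j) = eU j) :
    g = 1 := by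
  have hd : IsDiagU σ g := isDiagU_of_scale σ fun j hj => ⟨1, by rw [h j hj, one_smul]⟩
  have h1 : ∀ j : Fin n, j.rev ≠ j → g.1.1 j j = 1 := fun j hj => by
    rw [← uAct_eU σ, h j hj]
    simp [eU_apply]
  have hall : ∀ j, g.1.1 j j = 1 := by
    intro j
    by_cases hj : j.rev = j
    · have h2 := hd.prod_eq σ
      rwa [Finset.prod_eq_single j (fun x _ hx => h1 x fun h' => hx (mid_unique h' hj))
        (by simp)] at h2
    · exact h1 j hj
  refine Subtype.ext (Subtype.ext ?_)
  ext x y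
  rcases eq_or_ne x y with rfl | hxy
  · simp [hall]
  · simp [hd x y hxy, hxy]

omit [Finite F] in
theorem eq_of_agree {g g' : UG n σ}
    (h : ∀ j : Fin n, j.rev ≠ j → uAct σ g (eU j) = uAct σ g' (eU j)) : g = g' := by
  refine (inv_mul_eq_one.1 (eq_one_of_fix σ fun j hj => ?_)).symm
  rw [uAct_mul, h j hj, uAct_inv_cancel]

include hinv

/-- A triangular element is a diagonal element times a unipotent one. -/
theorem exists_diag_mul {g : UG n σ} (h : ∀ x y, y < x → g.1.1 x y = 0) :
    ∃ D u, IsDiagU σ D ∧ u ∈ uU n σ ∧ g = D * u := by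
  set d : Fin n → F := fun x => g.1.1 x x with hd
  have hdd : ∀ j, d j * σ (d j.rev) = 1 := by
    intro j
    have h1 := uAct_form σ g (eU j) (eU j.rev)
    rw [uForm, Finset.sum_eq_single j] at h1
    · rw [uAct_eU, uAct_eU, uForm_eU_right, Fin.rev_rev, eU_apply, if_pos rfl] at h1
      exact h1
    · intro x _ hx
      rw [uAct_eU, uAct_eU]
      rcases lt_or_gt_of_ne hx with hlt | hlt
      · rw [h x.rev j.rev (Fin.rev_lt_rev.2 hlt), map_zero, mul_zero]
      · rw [h x j hlt, zero_mul]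
    · simp
  have hdet : (diagonal d).det = 1 := by
    rw [det_diagonal, hd, ← Matrix.det_of_upperTriangular fun x y hxy => h x y hxy]
    exact g.1.2
  have hiso : ∀ x y, uForm σ (diagonal d *ᵥ x) (diagonal d *ᵥ y) = uForm σ x y := by
    intro x y
    refine Finset.sum_congr rfl fun l _ => ?_
    rw [mulVec_diagonal, mulVec_diagonal, map_mul]
    linear_combination (x l * σ (y l.rev)) * hdd l
  let D : UG n σ := ⟨⟨diagonal d, hdet⟩, hiso⟩
  have hD : IsDiagU σ D := fun x y hxy => diagonal_apply_ne _ hxy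
  refine ⟨D, D⁻¹ * g, hD, ?_, (mul_inv_cancel_left _ _).symm⟩
  have hval : ∀ x y, d x * (D⁻¹ * g).1.1 x y = g.1.1 x y := by
    intro x y
    have h1 : (D * (D⁻¹ * g)).1.1 x y = g.1.1 x y := by rw [mul_inv_cancel_left]
    rwa [Subgroup.coe_mul, Matrix.SpecialLinearGroup.coe_mul, diagonal_mul] at h1
  have hd0 : ∀ x, d x ≠ 0 := fun x hx => by
    have h1 := hdd x
    rw [hx, zero_mul] at h1
    exact zero_ne_one h1
  refine (mem_uU_iff σ).2 ⟨fun x y hxy => ?_, fun x => ?_⟩
  · have h1 := hval x y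
    rw [h x y hxy] at h1
    exact (mul_eq_zero.1 h1).resolve_left (hd0 x)
  · exact mul_left_cancel₀ (hd0 x) ((hval x x).trans (mul_one _).symm)

omit hinv in
theorem IsDiagU.mem_normalizer {D : UG n σ} (hD : IsDiagU σ D) :
    D ∈ Subgroup.normalizer (uU n σ : Set (UG n σ)) := by
  refine Subgroup.mem_normalizer_iff_conj_image_eq.2 ?_
  refine Set.eq_of_subset_of_ncard_le ?_ ?_ (Set.toFinite _)
  · rintro _ ⟨u, hu, rfl⟩
    rw [SetLike.mem_coe, MulAut.conj_apply]
    set e : Fin n → F := fun x => D.1.1 x x with he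
    have hinv' : ∀ y, uAct σ D⁻¹ (eU y) = (e y)⁻¹ • eU y := fun y => by
      have h1 := congrArg (uAct σ D⁻¹) (hD.act σ y)
      rw [uAct_inv_cancel, uAct_smul] at h1
      have hy : e y ≠ 0 := fun h0 => by
        have h2 := hD.mul_rev σ y
        rw [show D.1.1 y y = 0 from h0, zero_mul] at h2
        exact zero_ne_one h2
      exact (eq_inv_smul_iff₀ hy).2 h1.symm
    have hconj : ∀ x y, (D * u * D⁻¹).1.1 x y = (e y)⁻¹ * (u.1.1 x y * e x) := by
      intro x y
      rw [← uAct_eU σ, uAct_mul, uAct_mul, hinv', uAct_smul, uAct_smul, Pi.smul_apply,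
        smul_eq_mul]
      congr 1
      show (D.1.1 *ᵥ uAct σ u (eU y)) x = _
      rw [show D.1.1 = diagonal e from Matrix.ext fun a b => by
        rcases eq_or_ne a b with rfl | hab
        · rw [diagonal_apply_eq]
        · rw [diagonal_apply_ne _ hab, hD a b hab], mulVec_diagonal, uAct_eU, mul_comm]
    obtain ⟨h1, h2⟩ := (mem_uU_iff σ).1 hu
    refine (mem_uU_iff σ).2 ⟨fun x y hxy => ?_, fun x => ?_⟩
    · rw [hconj, h1 x y hxy, zero_mul, mul_zero]
    · rw [hconj, h2, one_mul, inv_mul_cancel₀]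
      intro h0
      have h3 := hD.mul_rev σ x
      rw [show D.1.1 x x = 0 from h0, zero_mul] at h3
      exact zero_ne_one h3
  · exact (Set.ncard_image_of_injective _ (MulAut.conj D).injective).ge

/-- An element normalizing the unipotent subgroup is triangular. -/
theorem triangular_of_normalizes (hne : σ ≠ RingEquiv.refl F) {g : UG n σ}
    (h : ∀ u ∈ uU n σ, g⁻¹ * u * g ∈ uU n σ) : ∀ x y, y < x → g.1.1 x y = 0 := by
  suffices H : ∀ k i : Fin n, k < i → g.1.1 i k = 0 from fun x y hxy => H y x hxy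
  intro k
  induction k using WellFoundedLT.induction with
  | _ k ih =>
  intro i hki
  set v := uAct σ g (eU k) with hv
  have hlow : ∀ u ∈ uU n σ, ∀ x, k ≤ x → uAct σ u v x = v x := by
    intro u hu x hx
    obtain ⟨h1, h2⟩ := (mem_uU_iff σ).1 (h u hu)
    have heq : uAct σ u v - v = uAct σ g (uAct σ (g⁻¹ * u * g) (eU k) - eU k) := by
      rw [uAct_sub, uAct_mul, uAct_mul, uAct_cancel_inv]
    rw [← sub_eq_zero, ← Pi.sub_apply, heq]
    show (g.1.1 *ᵥ _) x = 0
    rw [Matrix.mulVec, dotProduct]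
    refine Finset.sum_eq_zero fun l _ => ?_
    rcases lt_or_ge l k with hl | hl
    · rw [ih l hl x (lt_of_lt_of_le hl hx), zero_mul]
    · rw [Pi.sub_apply, uAct_eU, eU_apply]
      rcases hl.eq_or_lt with rfl | hlt
      · rw [h2, if_pos rfl, sub_self, mul_zero]
      · rw [h1 l k hlt, if_neg hlt.ne', sub_zero, mul_zero]
  rw [← uAct_eU σ, ← hv]
  obtain ⟨s, hs0, hs⟩ := CfsgLib.Transvec.Unitary.exists_skew hne hinv
  obtain ⟨b, hb⟩ := CfsgLib.Transvec.Unitary.exists_trace_eq hne hinv
    (show σ (-1 : F) = -1 by simp)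
  by_cases hk : k.rev = k
  · -- `k` is the middle index
    have hi : i.rev < k := by
      have := Fin.rev_lt_rev.2 hki
      rwa [hk] at this
    have hc : UCond σ (eU i.rev) (eU k) b := by
      refine ⟨?_, ?_, ?_⟩
      · simp [uForm_eU_right, eU_apply, (hi.trans hki).ne']
      · simp [uForm_eU_right, eU_apply, hki.ne']
      · rw [uForm_eU_right, eU_apply, if_pos hk]
        linear_combination hb
    have hmem := uY_mem_uU σ hinv hc (k := i.rev) (by rw [Fin.rev_rev]; exact hi.trans hki)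
      (fun j hj => by simp [eU_apply, hj.ne'])
      (fun j hj => by
        rw [Fin.rev_rev] at hj
        simp [eU_apply, (lt_of_lt_of_le hki hj).ne'])
    have h1 := hlow _ hmem k le_rfl
    simpa [uY_apply σ hinv hc, uForm_eU_right, eU_apply, hi.ne'] using h1
  by_cases hi : i.rev = i
  · -- `i` is the middle index
    have hk' : i < k.rev := by
      have := Fin.rev_lt_rev.2 hki
      rwa [hi] at this
    have hc : UCond σ (eU k) (eU i) b := by
      refine ⟨?_, ?_, ?_⟩
      · simp [uForm_eU_right, eU_apply, hk]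
      · simp [uForm_eU_right, eU_apply, hk'.ne']
      · rw [uForm_eU_right, eU_apply, if_pos hi]
        linear_combination hb
    have hmem := uY_mem_uU σ hinv hc (k := k) (hki.trans hk')
      (fun j hj => by simp [eU_apply, hj.ne'])
      (fun j hj => by simp [eU_apply, (lt_of_lt_of_le hk' hj).ne'])
    have h1 := hlow _ hmem i hki.le
    have h2 : v k.rev = 0 := by
      simpa [uY_apply σ hinv hc, uForm_eU_right, eU_apply, hki.ne'] using h1
    have h3 := hlow _ hmem k le_rfl
    simpa [uY_apply σ hinv hc, uForm_eU_right, eU_apply, hki.ne, h2, hi] using h3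
  by_cases hik : i = k.rev
  · subst hik
    have hc : UCond σ (eU k) (0 : Fin n → F) s := by
      refine ⟨?_, by simp, by simpa using hs⟩
      simp [uForm_eU_right, eU_apply, hk]
    have hmem := uY_mem_uU σ hinv hc (k := k) hki (fun j hj => by simp [eU_apply, hj.ne'])
      (fun j _ => rfl)
    have h1 := hlow _ hmem k le_rfl
    simpa [uY_apply σ hinv hc, uForm_eU_right, eU_apply, hs0] using h1
  have hki' : k ≠ i.rev := fun h' => hik (by rw [h', Fin.rev_rev])
  rcases lt_or_gt_of_ne hi with hlt | hlt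
  · have hmem : uE σ i k (1 : F) ∈ uU n σ := uY_mem_uU σ hinv (ucond_root σ hi hk hki.ne 1)
      (k := i.rev) (by rw [Fin.rev_rev]; exact hlt) (fun j hj => by simp [eU_apply, hj.ne'])
      (fun j hj => by
        rw [Fin.rev_rev] at hj
        simp [eU_apply, (lt_of_lt_of_le hki hj).ne'])
    have h1 := hlow _ hmem k le_rfl
    simpa [uE_apply σ hinv hi hk hki.ne, eU_apply, hki'] using h1
  · have hab : i.rev ≠ k.rev := fun h' => hki.ne' (Fin.rev_injective h')
    have hlt' : i.rev < k.rev := Fin.rev_lt_rev.2 hki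
    have hk' : k.rev.rev ≠ k.rev := by rw [Fin.rev_rev]; exact Ne.symm hk
    have hi' : i.rev.rev ≠ i.rev := by rw [Fin.rev_rev]; exact Ne.symm hi
    have hmem : uE σ k.rev i.rev (1 : F) ∈ uU n σ := uY_mem_uU σ hinv
      (ucond_root σ hk' hi' hab 1) (k := k) (hki.trans (hlt.trans hlt'))
      (fun j hj => by simp [eU_apply, hj.ne'])
      (fun j hj => by simp [eU_apply, (lt_of_lt_of_le hlt' hj).ne'])
    have h1 := hlow _ hmem k le_rfl
    simpa [uE_apply σ hinv hk' hi' hab, eU_apply, hki'] using h1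

end CfsgLib.Fusion.SUSimple
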