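import Cfsg.Agent.Lib.Fusion.PSUSimple.Main
import Cfsg.Agent.Lib.Fusion.CentralQuotientSimple

/-!
# Transfer to `PSU`
-/

set_option autoImplicit false

open Matrix Cfsg Cfsg.FusionSystem CfsgLib.UnitarySpec CfsgLib.PronormalPSU

namespace CfsgLib.Fusion.SUSimple

variable {F : Type*} [Field F] [Fintype F] {n q : ℕ}

theorem exists_hom_su (hF : Fintype.card F = q ^ 2) :
    ∃ σ : F ≃+* F, (∀ a, σ (σ a) = a) ∧ σ ≠ RingEquiv.refl F ∧ (∀ a, σ a = a ^ q) ∧
      ∃ φ : UG n σ →* Cfsg.SU n F q, Function.Bijective φ := by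
  obtain ⟨σ, hσ, hinv, hne⟩ := CfsgLib.Transvec.Unitary.exists_frob hF
  obtain ⟨x, hx⟩ := exists_congr_one hinv hne (H := antiJ F n)
    (by rw [antiJ_transpose, antiJ_map]) (fun h => by
      have := congrArg Matrix.det (antiJ_sq (F := F) (n := n))
      rw [det_mul, h, zero_mul, det_one] at this
      exact zero_ne_one this)
  have hmap : ∀ A B : Matrix (Fin n) (Fin n) F, (A * B).map σ = A.map σ * B.map σ :=
    fun A B => Matrix.map_mul (f := σ.toRingHom)
  have hy1 : (x⁻¹ : GL (Fin n) F).1 * x.1 = 1 := x.inv_mul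
  have hy2 : x.1 * (x⁻¹ : GL (Fin n) F).1 = 1 := x.mul_inv
  set y := (x⁻¹ : GL (Fin n) F).1 with hy
  have hJ : yᵀ * y.map σ = antiJ F n := by
    calc yᵀ * y.map σ = yᵀ * (x.1ᵀ * antiJ F n * x.1.map σ) * y.map σ := by
          rw [hx, Matrix.mul_one]
      _ = (x.1 * y)ᵀ * antiJ F n * (x.1 * y).map σ := by
          simp only [transpose_mul, hmap, Matrix.mul_assoc]
      _ = antiJ F n := by
          rw [hy2, Matrix.map_one _ (map_zero σ) (map_one σ), transpose_one, Matrix.one_mul,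
            Matrix.mul_one]
  have hdet : y.det * x.1.det = 1 := by rw [← det_mul, hy1, det_one]
  -- the map
  have hmem : ∀ g : UG n σ, IsU σ 1 (y * g.1.1 * x.1) := by
    intro g
    have hg : g.1.1ᵀ * antiJ F n * g.1.1.map σ = antiJ F n := (mem_UG_iff σ g.1).1 g.2
    show _ = _
    calc (y * g.1.1 * x.1)ᵀ * 1 * (y * g.1.1 * x.1).map σ
        = x.1ᵀ * (g.1.1ᵀ * (yᵀ * y.map σ) * g.1.1.map σ) * x.1.map σ := by
          simp only [transpose_mul, hmap, Matrix.mul_one, Matrix.mul_assoc]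
      _ = 1 := by rw [hJ, hg, hx]
  let φ₀ : UG n σ → Cfsg.SU n F q := fun g => ⟨⟨y * g.1.1 * x.1, by
    rw [det_mul, det_mul, g.1.2, mul_one, hdet]⟩, (mem_SU_iff hσ _).2 (hmem g)⟩
  let φ : UG n σ →* Cfsg.SU n F q :=
    { toFun := φ₀
      map_one' := Subtype.ext (Subtype.ext (by simp [φ₀, hy1]))
      map_mul' := fun g h => Subtype.ext (Subtype.ext (by
        show y * (g.1.1 * h.1.1) * x.1 = (y * g.1.1 * x.1) * (y * h.1.1 * x.1)
        calc y * (g.1.1 * h.1.1) * x.1 = y * g.1.1 * (x.1 * y) * h.1.1 * x.1 := by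
              rw [hy2, Matrix.mul_one]; simp only [Matrix.mul_assoc]
          _ = _ := by simp only [Matrix.mul_assoc])) }
  refine ⟨σ, hinv, hne, hσ, φ, fun g h hgh => ?_, fun A => ?_⟩
  · have h1 : y * g.1.1 * x.1 = y * h.1.1 * x.1 :=
      congrArg (fun B : Cfsg.SU n F q => (B.1 : Matrix (Fin n) (Fin n) F)) hgh
    refine Subtype.ext (Subtype.ext ?_)
    have h2 := congrArg (fun B => x.1 * B * y) h1
    calc g.1.1 = (x.1 * y) * g.1.1 * (x.1 * y) := by rw [hy2, Matrix.one_mul, Matrix.mul_one]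
      _ = x.1 * (y * h.1.1 * x.1) * y := by rw [← h1]; simp only [Matrix.mul_assoc]
      _ = (x.1 * y) * h.1.1 * (x.1 * y) := by simp only [Matrix.mul_assoc]
      _ = h.1.1 := by rw [hy2, Matrix.one_mul, Matrix.mul_one]
  · have hA : (A.1 : Matrix (Fin n) (Fin n) F)ᵀ * 1 * (A.1 : Matrix (Fin n) (Fin n) F).map σ = 1 :=
      (mem_SU_iff hσ _).1 A.2
    rw [Matrix.mul_one] at hA
    refine ⟨⟨⟨x.1 * A.1.1 * y, by rw [det_mul, det_mul, A.1.2, mul_one, mul_comm, hdet]⟩,
      (mem_UG_iff σ _).2 ?_⟩, Subtype.ext (Subtype.ext ?_)⟩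
    · show (x.1 * A.1.1 * y)ᵀ * antiJ F n * (x.1 * A.1.1 * y).map σ = antiJ F n
      calc (x.1 * A.1.1 * y)ᵀ * antiJ F n * (x.1 * A.1.1 * y).map σ
          = yᵀ * (A.1.1ᵀ * (x.1ᵀ * antiJ F n * x.1.map σ) * A.1.1.map σ) * y.map σ := by
            simp only [transpose_mul, hmap, Matrix.mul_assoc]
        _ = antiJ F n := by rw [hx, Matrix.mul_one, hA, Matrix.mul_one, hJ]
    · show y * (x.1 * A.1.1 * y) * x.1 = A.1.1
      calc y * (x.1 * A.1.1 * y) * x.1 = (y * x.1) * A.1.1 * (y * x.1) := by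
            simp only [Matrix.mul_assoc]
        _ = A.1.1 := by rw [hy1, Matrix.one_mul, Matrix.mul_one]

variable {p : ℕ} [Fact p.Prime] [CharP F p]

/-- The defining characteristic fusion system of `PSU` is simple. -/
theorem isSimple_psu (hF : Fintype.card F = q ^ 2) (hn : 4 ≤ n) (S : Sylow p (Cfsg.PSU n F q)) :
    (groupFusionSystem (S : Subgroup (Cfsg.PSU n F q))).IsSimple p := by
  classical
  obtain ⟨σ, hinv, hne, hσ, φ, hφ⟩ := exists_hom_su (n := n) hF
  let π₀ : UG n σ →* Cfsg.PSU n F q := (psuMk (F := F) (n := n) (q := q)).comp φ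
  have hπ₀ : Function.Surjective π₀ := (QuotientGroup.mk'_surjective _).comp hφ.2
  obtain ⟨P, hP⟩ := exists_sylow_uU σ hinv hne (p := p) (n := n)
  obtain ⟨k, hk⟩ := MulAction.exists_smul_eq (Cfsg.PSU n F q) (P.mapSurjective hπ₀) S
  let π : UG n σ →* Cfsg.PSU n F q := (MulAut.conj k).toMonoidHom.comp π₀
  have hker : ∀ z ∈ π.ker, φ z ∈ Subgroup.center (Cfsg.SU n F q) := by
    intro z hz
    have h1 : π₀ z = 1 := by
      simpa [π, MonoidHom.mem_ker] using hz
    exact (QuotientGroup.eq_one_iff _).1 h1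
  have hmap : (P : Subgroup (UG n σ)).map π = (S : Subgroup (Cfsg.PSU n F q)) := by
    rw [← hk, ← Subgroup.map_map]
    rfl
  refine (transported_groupFusion_central π ((MulAut.conj k).surjective.comp hπ₀)
    (fun z hz => ?_) (fun z hz => ?_) P.2 hmap).isSimple P.2 (isSimple_ug σ hinv hne hn hP)
  · refine Subgroup.mem_center_iff.2 fun g => hφ.1 ?_
    rw [map_mul, map_mul]
    exact Subgroup.mem_center_iff.1 (hker z hz) (φ g)
  · have h1 : psuMk (φ z) ^ 1 = 1 := by
      rw [pow_one]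
      exact (QuotientGroup.eq_one_iff _).2 (hker z hz)
    obtain ⟨c, hc, -, hc1⟩ := exists_of_psuMk_pow_eq_one hF (by omega) hσ (φ z) 1 h1
    have hord : orderOf z ∣ q + 1 := by
      refine orderOf_dvd_of_pow_eq_one (hφ.1 ?_)
      rw [map_pow, map_one]
      refine Subtype.ext (Subtype.ext ?_)
      rw [su_coe_pow, show ((φ z).1 : Matrix (Fin n) (Fin n) F) = c • 1 by rw [← hc, pow_one],
        smul_pow, one_pow, hc1, one_smul]
      rfl
    refine (Nat.Coprime.coprime_dvd_left hord ?_)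
    rw [Nat.coprime_comm, (Fact.out : p.Prime).coprime_iff_not_dvd]
    intro hdvd
    have hpq : p ∣ q := by
      refine (Fact.out : p.Prime).dvd_of_dvd_pow (n := 2) ?_
      rw [← hF]
      exact (CharP.cast_eq_zero_iff F p _).1 (FiniteField.cast_card_eq_zero F)
    have h2 := Nat.dvd_sub hdvd hpq
    rw [Nat.add_sub_cancel_left] at h2
    exact (Fact.out : p.Prime).one_lt.ne' (Nat.dvd_one.1 h2)

end CfsgLib.Fusion.SUSimple
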